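import Cfsg.Agent.Lib.Recog.CarmichaelPresentation

/-!
Universal property of the alternating groups with respect to three-cycles through two points.
-/

set_option autoImplicit false

namespace CfsgLib.Pres.ShortAlt

open Equiv CfsgLib.Recog

variable {m : ℕ}

/-- the three-cycle through the first two points and a further one -/
def zc (m i : ℕ) : Perm (Fin (m + 2)) := swap (pt m 0) (pt m 1) * swap (pt m 1) (pt m (i + 2))

/-- the double transposition of two adjacent further points -/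
def tc (m i : ℕ) : Perm (Fin (m + 2)) := swap (pt m 0) (pt m 1) * swap (pt m (i + 2)) (pt m (i + 3))

theorem gen_zero (i : Fin m) (h : i.val = 0) : carmichaelGen m i = zc m 0 := by
  rw [carmichaelGen, if_pos h, zc]

theorem gen_succ (i : Fin m) {k : ℕ} (h : i.val = k + 1) : carmichaelGen m i = tc m k := by
  rw [carmichaelGen, if_neg (by omega), tc, h]

theorem zc_mem {i : ℕ} (hi : i < m) : zc m i ∈ alternatingGroup (Fin (m + 2)) := by
  rw [zc, Perm.mem_alternatingGroup, map_mul,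
    Perm.sign_swap (pt_ne m (by omega) (by omega) (by omega)),
    Perm.sign_swap (pt_ne m (by omega) (by omega) (by omega))]
  rfl

theorem tc_mem {i : ℕ} (hi : i + 1 < m) : tc m i ∈ alternatingGroup (Fin (m + 2)) := by
  rw [tc, Perm.mem_alternatingGroup, map_mul,
    Perm.sign_swap (pt_ne m (by omega) (by omega) (by omega)),
    Perm.sign_swap (pt_ne m (by omega) (by omega) (by omega))]
  rfl

/-- a three-cycle through two points applied to a point -/
theorem three_apply {α : Type*} [DecidableEq α] {a b j : α} (hab : a ≠ b) (haj : a ≠ j) (hbj : b ≠ j)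
    (x : α) : (swap a b * swap b j) x = if x = a then b else if x = b then j else if x = j then a else x := by
  rw [Perm.mul_apply]
  split_ifs with h1 h2 h3
  · subst h1; rw [swap_apply_of_ne_of_ne hab haj, swap_apply_left]
  · subst h2; rw [swap_apply_left, swap_apply_of_ne_of_ne haj.symm hbj.symm]
  · subst h3; rw [swap_apply_right, swap_apply_right]
  · rw [swap_apply_of_ne_of_ne h2 h3, swap_apply_of_ne_of_ne h1 h2]

theorem three_inv {α : Type*} [DecidableEq α] (a b j : α) :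
    (swap a b * swap b j)⁻¹ = swap b j * swap a b := by
  rw [mul_inv_rev, swap_inv, swap_inv]

/-- the double transposition in terms of three-cycles -/
theorem tc_eq {j : ℕ} (hj : j + 1 < m) : tc m j = zc m j * (zc m (j + 1))⁻¹ * zc m j := by
  have h01 := pt_ne m (show 0 < m + 2 by omega) (show 1 < m + 2 by omega) zero_ne_one
  have h0a := pt_ne m (show 0 < m + 2 by omega) (show j + 2 < m + 2 by omega) (by omega)
  have h1a := pt_ne m (show 1 < m + 2 by omega) (show j + 2 < m + 2 by omega) (by omega)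
  have h0b := pt_ne m (show 0 < m + 2 by omega) (show j + 3 < m + 2 by omega) (by omega)
  have h1b := pt_ne m (show 1 < m + 2 by omega) (show j + 3 < m + 2 by omega) (by omega)
  have hab := pt_ne m (show j + 2 < m + 2 by omega) (show j + 3 < m + 2 by omega) (by omega)
  unfold tc zc
  rw [three_inv, show j + 1 + 2 = j + 3 from rfl]
  ext x
  simp only [Perm.mul_apply]
  by_cases x0 : x = pt m 0 <;> by_cases x1 : x = pt m 1 <;> by_cases xa : x = pt m (j + 2) <;>
    by_cases xb : x = pt m (j + 3) <;> simp [swap_apply_def, *] <;> grind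

variable {X : Type*} [Group X]

/-- the presentation as a universal property -/
theorem exists_hom_rels (hm : 1 ≤ m) (x : Fin m → X)
    (hx : ∀ r ∈ carmichaelRelators m, FreeGroup.lift x r = 1) :
    ∃ φ : alternatingGroup (Fin (m + 2)) →* X,
      ∀ i, φ ⟨carmichaelGen m i, carmichaelGen_mem m i⟩ = x i := by
  obtain ⟨e⟩ := presentation_alternating m hm
  let a : Fin m → alternatingGroup (Fin (m + 2)) := fun i => ⟨carmichaelGen m i, carmichaelGen_mem m i⟩
  have ha : ∀ r ∈ carmichaelRelators m, FreeGroup.lift a r = 1 := fun r hr => by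
    refine Subtype.ext ?_
    rw [show ((FreeGroup.lift a r : alternatingGroup (Fin (m + 2))) : Perm (Fin (m + 2))) =
      ((alternatingGroup (Fin (m + 2))).subtype.comp (FreeGroup.lift a)) r from rfl,
      show (alternatingGroup (Fin (m + 2))).subtype.comp (FreeGroup.lift a) =
        FreeGroup.lift (fun i => carmichaelGen m i) from FreeGroup.ext_hom _ _ fun i => by simp [a],
      lift_carmichaelGen_eq_one m r hr]
    rfl
  let φ₀ : PresentedGroup (carmichaelRelators m) →* alternatingGroup (Fin (m + 2)) :=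
    PresentedGroup.toGroup ha
  have hsurj : Function.Surjective φ₀ := by
    rintro ⟨g, hg⟩
    have hle : Subgroup.closure (Set.range (carmichaelGen m)) ≤
        φ₀.range.map (alternatingGroup (Fin (m + 2))).subtype := by
      rw [Subgroup.closure_le]
      rintro _ ⟨i, rfl⟩
      exact ⟨a i, ⟨PresentedGroup.of i, PresentedGroup.toGroup.of _⟩, rfl⟩
    obtain ⟨z, ⟨w, rfl⟩, hz⟩ := hle (alternatingGroup_le_closure m hm hg)
    exact ⟨w, Subtype.ext hz⟩
  have : Finite (PresentedGroup (carmichaelRelators m)) := Finite.of_equiv _ e.symm.toEquiv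
  have hbij : Function.Bijective φ₀ := (Nat.bijective_iff_surjective_and_card φ₀).2
    ⟨hsurj, Nat.card_congr e.toEquiv⟩
  let e₀ := MulEquiv.ofBijective φ₀ hbij
  refine ⟨(PresentedGroup.toGroup (f := x) hx).comp e₀.symm.toMonoidHom, fun i => ?_⟩
  have : e₀.symm (a i) = PresentedGroup.of i := by
    rw [MulEquiv.symm_apply_eq]; exact (PresentedGroup.toGroup.of ha).symm
  show PresentedGroup.toGroup (f := x) hx (e₀.symm (a i)) = x i
  rw [this, PresentedGroup.toGroup.of]

/-- the presentation on relations stated one by one -/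
theorem exists_hom_seq (hm : 1 ≤ m) (x : ℕ → X) (h3 : x 0 ^ 3 = 1)
    (h2 : ∀ i, i + 1 < m → x (i + 1) ^ 2 = 1) (hb : ∀ i, i + 1 < m → (x i * x (i + 1)) ^ 3 = 1)
    (hf : ∀ i j, i + 1 < j → j < m → (x i * x j) ^ 2 = 1) :
    ∃ φ : alternatingGroup (Fin (m + 2)) →* X,
      φ ⟨zc m 0, zc_mem hm⟩ = x 0 ∧ ∀ j (hj : j + 1 < m), φ ⟨tc m j, tc_mem hj⟩ = x (j + 1) := by
  obtain ⟨φ, hφ⟩ := exists_hom_rels hm (fun i : Fin m => x i) (by
    rintro r (((⟨i, hi, rfl⟩ | ⟨i, hi, rfl⟩) | ⟨i, j, hij, rfl⟩) | ⟨i, j, hij, rfl⟩) <;>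
      simp only [map_pow, map_mul, FreeGroup.lift_apply_of]
    · rw [hi]; exact h3
    · obtain ⟨k, hk⟩ : ∃ k, i.val = k + 1 := ⟨i.val - 1, by omega⟩
      rw [hk]; exact h2 k (hk ▸ i.isLt)
    · rw [hij]; exact hb _ (hij ▸ j.isLt)
    · exact hf _ _ hij j.isLt)
  refine ⟨φ, ?_, fun j hj => ?_⟩
  · have := hφ ⟨0, hm⟩
    simpa only [gen_zero (⟨0, hm⟩ : Fin m) rfl] using this
  · have := hφ ⟨j + 1, hj⟩
    simpa only [gen_succ (⟨j + 1, hj⟩ : Fin m) rfl] using this

theorem closure_seq (hm : 1 ≤ m) {R : Subgroup (Perm (Fin (m + 2)))} (h0 : zc m 0 ∈ R)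
    (ht : ∀ j, j + 1 < m → tc m j ∈ R) : alternatingGroup (Fin (m + 2)) ≤ R := by
  refine (alternatingGroup_le_closure m hm).trans ?_
  rw [Subgroup.closure_le]
  rintro _ ⟨i, rfl⟩
  rcases Nat.eq_zero_or_pos i.val with h | h
  · rw [gen_zero i h]; exact h0
  · obtain ⟨k, hk⟩ : ∃ k, i.val = k + 1 := ⟨i.val - 1, by omega⟩
    rw [gen_succ i hk]; exact ht k (hk ▸ i.isLt)

theorem hom_ext_seq (hm : 1 ≤ m) {φ ψ : alternatingGroup (Fin (m + 2)) →* X}
    (h0 : φ ⟨zc m 0, zc_mem hm⟩ = ψ ⟨zc m 0, zc_mem hm⟩)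
    (ht : ∀ j (hj : j + 1 < m), φ ⟨tc m j, tc_mem hj⟩ = ψ ⟨tc m j, tc_mem hj⟩) : φ = ψ := by
  refine MonoidHom.ext fun g => ?_
  have hle : alternatingGroup (Fin (m + 2)) ≤
      (φ.eqLocus ψ).map (alternatingGroup (Fin (m + 2))).subtype :=
    closure_seq hm ⟨_, h0, rfl⟩ fun j hj => ⟨_, ht j hj, rfl⟩
  obtain ⟨g', hg', e⟩ := hle g.2
  rw [show g = g' from Subtype.ext e.symm]
  exact hg'

section algebra

variable {a b c d : X}

theorem pair_mid (h : (a * b) ^ 2 = 1) : a * b * a = b⁻¹ := by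
  rw [pow_two] at h
  exact eq_inv_of_mul_eq_one_left (by rw [mul_assoc (a * b) a b]; exact h)

theorem pair_symm (h : (a * b) ^ 2 = 1) : (b * a) ^ 2 = 1 := by
  rw [show (b * a) ^ 2 = b * (a * b) ^ 2 * b⁻¹ by simp only [pow_two, mul_assoc, mul_inv_cancel, mul_one], h]; group

theorem pair_flip (h : (a * b) ^ 2 = 1) : a * b = b⁻¹ * a⁻¹ := by
  rw [← pair_mid h]; group

theorem tau_sq (ha : a ^ 3 = 1) (h : (a * b) ^ 2 = 1) : (a * b⁻¹ * a) ^ 2 = 1 := by
  have e : b⁻¹ * a⁻¹ * b⁻¹ = a := by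
    rw [show b⁻¹ * a⁻¹ * b⁻¹ = (b * a * b)⁻¹ by group, pair_mid (pair_symm h), inv_inv]
  have hi : a * a = a⁻¹ := eq_inv_of_mul_eq_one_left (by rw [← pow_two, ← pow_succ, ha])
  calc (a * b⁻¹ * a) ^ 2 = a * (b⁻¹ * (a * a) * b⁻¹) * a := by simp only [pow_two, mul_assoc]
    _ = 1 := by rw [hi, e, ← pow_two, ← pow_succ, ha]

theorem tau_other (h : (a * c) ^ 2 = 1) (h' : (b * c) ^ 2 = 1) :
    a * b⁻¹ * a * c * (a * b⁻¹ * a) = c⁻¹ := by
  have e : b⁻¹ * c⁻¹ * b⁻¹ = c := by
    rw [show b⁻¹ * c⁻¹ * b⁻¹ = (b * c * b)⁻¹ by group, pair_mid h', inv_inv]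
  calc a * b⁻¹ * a * c * (a * b⁻¹ * a) = a * (b⁻¹ * (a * c * a) * b⁻¹) * a := by group
    _ = c⁻¹ := by rw [pair_mid h, e, pair_mid h]

theorem tau_self (ha : a ^ 3 = 1) (hb : b ^ 3 = 1) (h : (a * b) ^ 2 = 1) :
    a * b⁻¹ * a * a * (a * b⁻¹ * a) = b⁻¹ := by
  have hi : b⁻¹ * b⁻¹ = b := by
    rw [← mul_inv_rev, inv_eq_of_mul_eq_one_right (show b * b * b = 1 by rw [← pow_two, ← pow_succ, hb])]
  calc a * b⁻¹ * a * a * (a * b⁻¹ * a) = a * b⁻¹ * a ^ 3 * b⁻¹ * a := by
        simp only [pow_succ, pow_zero, one_mul, mul_assoc]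
    _ = b⁻¹ := by rw [ha, mul_one, mul_assoc a, hi, pair_mid h]

theorem cube_quot (ha : a ^ 3 = 1) (hb : b ^ 3 = 1) (h : (a * b) ^ 2 = 1) : (a * b⁻¹) ^ 3 = 1 := by
  have hi : b * b = b⁻¹ := eq_inv_of_mul_eq_one_left (by rw [← pow_two, ← pow_succ, hb])
  have : (b * a * b) ^ 3 = 1 := by rw [pair_mid (pair_symm h), inv_pow, ha, inv_one]
  rw [← hi, show (a * (b * b)) ^ 3 = b⁻¹ * (b * a * b) ^ 3 * b by
    simp only [pow_succ, pow_zero, one_mul, mul_assoc, inv_mul_cancel_left], this]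
  group

end algebra

/-- Pairwise relations on three-cycles. -/
theorem exists_hom (hm : 1 ≤ m) (z : ℕ → X) (h3 : ∀ i, i < m → z i ^ 3 = 1)
    (h2 : ∀ i j, i < m → j < m → i ≠ j → (z i * z j) ^ 2 = 1) :
    ∃ φ : alternatingGroup (Fin (m + 2)) →* X, ∀ i (hi : i < m), φ ⟨zc m i, zc_mem hi⟩ = z i := by
  let t : ℕ → X := fun j => z j * (z (j + 1))⁻¹ * z j
  let x : ℕ → X := fun i => if i = 0 then z 0 else t (i - 1)
  have tinv : ∀ j c, j + 1 < m → c < m → c ≠ j → c ≠ j + 1 → t j * z c * t j = (z c)⁻¹ :=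
    fun j c hj hc e e' => tau_other (h2 j c (by omega) hc e.symm) (h2 (j + 1) c hj hc e'.symm)
  have tsq : ∀ j, j + 1 < m → t j ^ 2 = 1 := fun j hj =>
    tau_sq (h3 j (by omega)) (h2 j (j + 1) (by omega) hj (by omega))
  have tt : ∀ j, j + 1 < m → (t j)⁻¹ = t j := fun j hj =>
    inv_eq_of_mul_eq_one_left (by rw [← pow_two, tsq j hj])
  have hxb : ∀ i, i + 1 < m → (x i * x (i + 1)) ^ 3 = 1 := fun i hi => by
    rcases i with _ | i
    · simp only [x, if_true, zero_add, one_ne_zero, if_false, Nat.sub_self, t]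
      have hi' : z 0 * z 0 = (z 0)⁻¹ :=
        eq_inv_of_mul_eq_one_left (by rw [← pow_two, ← pow_succ, h3 0 hm])
      rw [← mul_assoc, ← mul_assoc, hi',
        show ((z 0)⁻¹ * (z 1)⁻¹ * z 0) = (z 0)⁻¹ * (z 1)⁻¹ * ((z 0)⁻¹)⁻¹ by rw [inv_inv], conj_pow,
        inv_pow, h3 1 hi, inv_one]
      group
    · simp only [x, Nat.succ_ne_zero, if_false, Nat.add_sub_cancel, t]
      have a1 := h3 i (by omega)
      have b1 := h3 (i + 1) (by omega)
      have ab := h2 i (i + 1) (by omega) (by omega) (by omega)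
      have hb' : (z (i + 1))⁻¹ * (z (i + 1))⁻¹ = z (i + 1) := by
        rw [← mul_inv_rev, inv_eq_of_mul_eq_one_right
          (show z (i + 1) * z (i + 1) * z (i + 1) = 1 by rw [← pow_two, ← pow_succ, b1])]
      have ha' : (z i)⁻¹ * (z i)⁻¹ = z i := by
        rw [← mul_inv_rev, inv_eq_of_mul_eq_one_right
          (show z i * z i * z i = 1 by rw [← pow_two, ← pow_succ, a1])]
      have e : z i * (z (i + 1))⁻¹ * z i * (z (i + 1) * (z (i + 1 + 1))⁻¹ * z (i + 1)) =
          (z (i + 1))⁻¹ * (z i * (z (i + 1 + 1))⁻¹) * ((z (i + 1))⁻¹)⁻¹ := by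
        calc _ = z i * (z (i + 1))⁻¹ * (z i * z (i + 1)) * ((z (i + 1 + 1))⁻¹ * z (i + 1)) := by group
          _ = z i * ((z (i + 1))⁻¹ * (z (i + 1))⁻¹) * (z i)⁻¹ *
              ((z (i + 1 + 1))⁻¹ * z (i + 1)) := by rw [pair_flip ab]; group
          _ = (z i * z (i + 1)) * ((z i)⁻¹ * (z (i + 1 + 1))⁻¹ * z (i + 1)) := by rw [hb']; group
          _ = (z (i + 1))⁻¹ * ((z i)⁻¹ * (z i)⁻¹) * ((z (i + 1 + 1))⁻¹ * z (i + 1)) := by
            rw [pair_flip ab]; group
          _ = _ := by rw [ha', inv_inv]; group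
      rw [e, conj_pow, cube_quot a1 (h3 _ hi) (h2 _ _ (by omega) hi (by omega))]
      group
  have hxf : ∀ i j, i + 1 < j → j < m → (x i * x j) ^ 2 = 1 := fun i j hij hj => by
    obtain ⟨k, rfl⟩ : ∃ k, j = k + 1 := ⟨j - 1, by omega⟩
    rcases i with _ | i
    · simp only [x, if_true, Nat.succ_ne_zero, if_false, Nat.add_sub_cancel]
      rw [pow_two, mul_assoc, ← mul_assoc (t k), tinv k 0 hj hm (by omega) (by omega), mul_inv_cancel]
    · simp only [x, Nat.succ_ne_zero, if_false, Nat.add_sub_cancel]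
      have e : t i * t k * t i = t k := by
        have e1 := tinv i k (by omega) (by omega) (by omega) (by omega)
        have e2 := tinv i (k + 1) (by omega) hj (by omega) (by omega)
        have e2' : t i * (z (k + 1))⁻¹ * t i = z (k + 1) := by
          have := congrArg (·⁻¹) e2
          simpa [mul_assoc, tt i (by omega)] using this
        have hii : t i * t i = 1 := by rw [← pow_two, tsq i (by omega)]
        calc t i * t k * t i
            = t i * z k * (t i * t i) * (z (k + 1))⁻¹ * (t i * t i) * z k * t i := by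
              rw [hii]; simp only [t]; group
          _ = (t i * z k * t i) * (t i * (z (k + 1))⁻¹ * t i) * (t i * z k * t i) := by group
          _ = (z k)⁻¹ * z (k + 1) * (z k)⁻¹ := by rw [e1, e2']
          _ = (t k)⁻¹ := by simp only [t]; group
          _ = t k := tt k hj
      rw [pow_two, show t i * t k * (t i * t k) = (t i * t k * t i) * t k by group, e,
        ← pow_two, tsq k hj]
  obtain ⟨φ, hφ0, hφt⟩ := exists_hom_seq hm x (by simpa [x] using h3 0 hm)
    (fun i hi => by simpa [x] using tsq i hi) hxb hxf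
  refine ⟨φ, fun i hi => ?_⟩
  induction i with
  | zero => simpa [x] using hφ0
  | succ i ih =>
    have e : zc m (i + 1) = (tc m i * zc m i * tc m i)⁻¹ := by
      have h01 := pt_ne m (show 0 < m + 2 by omega) (show 1 < m + 2 by omega) zero_ne_one
      have h0a := pt_ne m (show 0 < m + 2 by omega) (show i + 2 < m + 2 by omega) (by omega)
      have h1a := pt_ne m (show 1 < m + 2 by omega) (show i + 2 < m + 2 by omega) (by omega)
      have h0b := pt_ne m (show 0 < m + 2 by omega) (show i + 3 < m + 2 by omega) (by omega)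
      have h1b := pt_ne m (show 1 < m + 2 by omega) (show i + 3 < m + 2 by omega) (by omega)
      have hab := pt_ne m (show i + 2 < m + 2 by omega) (show i + 3 < m + 2 by omega) (by omega)
      rw [eq_inv_iff_mul_eq_one]
      unfold tc zc
      rw [show i + 1 + 2 = i + 3 from rfl]
      ext y
      simp only [Perm.mul_apply, Perm.one_apply]
      by_cases y0 : y = pt m 0 <;> by_cases y1 : y = pt m 1 <;> by_cases ya : y = pt m (i + 2) <;>
        by_cases yb : y = pt m (i + 3) <;> simp [swap_apply_def, *] <;> grind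
    rw [show (⟨zc m (i + 1), zc_mem hi⟩ : alternatingGroup (Fin (m + 2))) =
      ((⟨tc m i, tc_mem hi⟩ : alternatingGroup (Fin (m + 2))) * ⟨zc m i, zc_mem (by omega)⟩ *
        ⟨tc m i, tc_mem hi⟩)⁻¹ from Subtype.ext e, map_inv, map_mul, map_mul, ih (by omega), hφt i hi]
    simp only [x, Nat.succ_ne_zero, if_false, Nat.add_sub_cancel, t]
    rw [tau_self (h3 i (by omega)) (h3 (i + 1) hi) (h2 i (i + 1) (by omega) hi (by omega)), inv_inv]

end CfsgLib.Pres.ShortAlt
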