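import Cfsg.Agent.Lib.Pres.ShortAlt.Tools

/-!
The long cycle, the translation and the multiplier.
-/

set_option autoImplicit false

namespace CfsgLib.Pres.ShortAlt

open Equiv CfsgLib.Recog

variable {m : ℕ}

/-- products of the first double transpositions -/
def tprod (m : ℕ) : ℕ → Perm (Fin (m + 2))
  | 0 => 1
  | l + 1 => tprod m l * tc m l

theorem tprod_mem : ∀ {l : ℕ}, l + 1 ≤ m → tprod m l ∈ alternatingGroup (Fin (m + 2))
  | 0, _ => one_mem _
  | l + 1, h => mul_mem (tprod_mem (by omega)) (tc_mem (by omega))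

theorem tc_low {l : ℕ} (h : l + 1 < m) :
    tc m l (pt m 0) = pt m 1 ∧ tc m l (pt m 1) = pt m 0 ∧ tc m l (pt m (l + 2)) = pt m (l + 3) ∧
      tc m l (pt m (l + 3)) = pt m (l + 2) ∧
      ∀ i, i < m + 2 → 2 ≤ i → i ≠ l + 2 → i ≠ l + 3 → tc m l (pt m i) = pt m i := by
  have ne : ∀ {i j : ℕ}, i < m + 2 → j < m + 2 → i ≠ j → pt m i ≠ pt m j :=
    fun hi hj h => pt_ne m hi hj h
  refine ⟨?_, ?_, ?_, ?_, fun i hi h2 e e' => ?_⟩ <;> rw [tc, Perm.mul_apply]
  · rw [swap_apply_of_ne_of_ne (ne (by omega) (by omega) (by omega))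
      (ne (by omega) (by omega) (by omega)), swap_apply_left]
  · rw [swap_apply_of_ne_of_ne (ne (by omega) (by omega) (by omega))
      (ne (by omega) (by omega) (by omega)), swap_apply_right]
  · rw [swap_apply_left, swap_apply_of_ne_of_ne (ne (by omega) (by omega) (by omega))
      (ne (by omega) (by omega) (by omega))]
  · rw [swap_apply_right, swap_apply_of_ne_of_ne (ne (by omega) (by omega) (by omega))
      (ne (by omega) (by omega) (by omega))]
  · rw [swap_apply_of_ne_of_ne (ne hi (by omega) e) (ne hi (by omega) e'),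
      swap_apply_of_ne_of_ne (ne hi (by omega) (by omega)) (ne hi (by omega) (by omega))]

theorem tprod_spec : ∀ {l : ℕ}, l + 1 ≤ m →
    (∀ i, 2 ≤ i → i < l + 2 → tprod m l (pt m i) = pt m (i + 1)) ∧
      (tprod m l (pt m (l + 2)) = pt m 2) ∧
      (∀ i, l + 2 < i → i < m + 2 → tprod m l (pt m i) = pt m i) ∧
      ((tprod m l (pt m 0) = pt m 0 ∧ tprod m l (pt m 1) = pt m 1) ∨
        (tprod m l (pt m 0) = pt m 1 ∧ tprod m l (pt m 1) = pt m 0))
  | 0, _ => ⟨fun i h1 h2 => absurd h2 (by omega), rfl, fun _ _ _ => rfl, Or.inl ⟨rfl, rfl⟩⟩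
  | l + 1, h => by
    obtain ⟨h1, h2, h3, h4⟩ := tprod_spec (l := l) (by omega)
    obtain ⟨t0, t1, ta, tb, tf⟩ := tc_low (m := m) (l := l) (by omega)
    refine ⟨fun i hi hi' => ?_, ?_, fun i hi hi' => ?_, ?_⟩ <;>
      simp only [tprod, Perm.mul_apply]
    · rcases Nat.lt_or_ge i (l + 2) with e | e
      · rw [tf i (by omega) hi (by omega) (by omega), h1 i hi e]
      · obtain rfl : i = l + 2 := by omega
        rw [ta, h3 _ (by omega) (by omega)]
    · rw [show l + 1 + 2 = l + 3 from rfl, tb, h2]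
    · rw [tf i hi' (by omega) (by omega) (by omega), h3 i (by omega) hi']
    · rw [t0, t1]
      rcases h4 with ⟨a, b⟩ | ⟨a, b⟩
      · exact Or.inr ⟨b, a⟩
      · exact Or.inl ⟨b, a⟩

/-- the long cycle -/
def lc (σ : Perm (Fin (m + 2))) : Perm (Fin (m + 2)) := σ * tprod m (m - 1)

theorem lc_spec (hm : 1 ≤ m) {σ : Perm (Fin (m + 2))} (hσ : σ = 1 ∨ σ = swap (pt m 0) (pt m 1)) :
    (∀ i, 2 ≤ i → i ≤ m → lc σ (pt m i) = pt m (i + 1)) ∧
      ((lc σ (pt m 0) = pt m 0 ∧ lc σ (pt m 1) = pt m 1) ∨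
        (lc σ (pt m 0) = pt m 1 ∧ lc σ (pt m 1) = pt m 0)) := by
  obtain ⟨h1, -, -, h4⟩ := tprod_spec (m := m) (l := m - 1) (by omega)
  refine ⟨fun i hi hi' => ?_, ?_⟩
  · rw [lc, Perm.mul_apply, h1 i hi (by omega)]
    rcases hσ with rfl | rfl
    · rfl
    · rw [swap_apply_of_ne_of_ne (pt_ne m (by omega) (by omega) (by omega))
        (pt_ne m (by omega) (by omega) (by omega))]
  · simp only [lc, Perm.mul_apply]
    rcases hσ with rfl | rfl <;> rcases h4 with ⟨a, b⟩ | ⟨a, b⟩ <;> rw [a, b]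
    · exact Or.inl ⟨rfl, rfl⟩
    · exact Or.inr ⟨rfl, rfl⟩
    · exact Or.inr ⟨swap_apply_left .., swap_apply_right ..⟩
    · exact Or.inl ⟨swap_apply_right .., swap_apply_left ..⟩

section cycle

variable {C : Perm (Fin (m + 2))} (hC : ∀ i, 2 ≤ i → i ≤ m → C (pt m i) = pt m (i + 1))
  (hC01 : (C (pt m 0) = pt m 0 ∧ C (pt m 1) = pt m 1) ∨ (C (pt m 0) = pt m 1 ∧ C (pt m 1) = pt m 0))

include hC hC01

theorem tc_shift {j : ℕ} (hj : j + 2 < m) : C * tc m j * C⁻¹ = tc m (j + 1) := by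
  rw [tc, tc, show C * (swap (pt m 0) (pt m 1) * swap (pt m (j + 2)) (pt m (j + 3))) * C⁻¹ =
      (C * swap (pt m 0) (pt m 1) * C⁻¹) * (C * swap (pt m (j + 2)) (pt m (j + 3)) * C⁻¹) by group,
    ← swap_apply_apply, ← swap_apply_apply, hC (j + 2) (by omega) (by omega),
    hC (j + 3) (by omega) (by omega)]
  rcases hC01 with ⟨a, b⟩ | ⟨a, b⟩ <;> rw [a, b]
  rw [swap_comm (pt m 1)]

theorem zc_shift {j : ℕ} (hj : j + 1 < m) :
    C * zc m j * C⁻¹ = if C (pt m 0) = pt m 0 then zc m (j + 1) else (zc m (j + 1))⁻¹ := by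
  have h01 := pt_ne m (show 0 < m + 2 by omega) (show 1 < m + 2 by omega) zero_ne_one
  have h0a := pt_ne m (show 0 < m + 2 by omega) (show j + 3 < m + 2 by omega) (by omega)
  have h1a := pt_ne m (show 1 < m + 2 by omega) (show j + 3 < m + 2 by omega) (by omega)
  have e : C * zc m j * C⁻¹ = swap (C (pt m 0)) (C (pt m 1)) * swap (C (pt m 1)) (pt m (j + 3)) := by
    rw [zc, ← hC (j + 2) (by omega) (by omega), swap_apply_apply, swap_apply_apply]; group
  rw [e]
  rcases hC01 with ⟨a, b⟩ | ⟨a, b⟩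
  · rw [if_pos a, a, b, zc]
  · rw [if_neg (by rw [a]; exact h01.symm), a, b, zc, three_inv, show j + 1 + 2 = j + 3 from rfl]
    ext y
    simp only [Perm.mul_apply]
    by_cases y0 : y = pt m 0 <;> by_cases y1 : y = pt m 1 <;> by_cases ya : y = pt m (j + 3) <;>
      simp [swap_apply_def, *] <;> grind

theorem alt_le_closure (hm : 1 ≤ m) {R : Subgroup (Perm (Fin (m + 2)))} (hCR : C ∈ R)
    (hZR : zc m 0 ∈ R) : alternatingGroup (Fin (m + 2)) ≤ R := by
  have hz : ∀ j, j < m → zc m j ∈ R := by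
    intro j
    induction j with
    | zero => exact fun _ => hZR
    | succ j ih =>
      intro hj
      have := mul_mem (mul_mem hCR (ih (by omega))) (inv_mem hCR)
      rw [zc_shift hC hC01 hj] at this
      split_ifs at this
      · exact this
      · exact inv_mem_iff.1 this
  refine closure_seq hm hZR fun j hj => ?_
  rw [tc_eq hj]
  exact mul_mem (mul_mem (hz j (by omega)) (inv_mem (hz (j + 1) hj))) (hz j (by omega))

end cycle

theorem two_gen_alt {m : ℕ} (hm : 1 ≤ m) :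
    ∃ g1 g2 : alternatingGroup (Fin (m + 2)), Subgroup.closure {g1, g2} = ⊤ := by
  obtain ⟨h1, h2⟩ := lc_spec hm (σ := (1 : Perm (Fin (m + 2)))) (Or.inl rfl)
  refine ⟨⟨lc 1, by rw [lc, one_mul]; exact tprod_mem (by omega)⟩, ⟨zc m 0, zc_mem hm⟩, ?_⟩
  rw [eq_top_iff]
  intro g _
  set S := Subgroup.closure ({⟨lc 1, by rw [lc, one_mul]; exact tprod_mem (by omega)⟩,
    ⟨zc m 0, zc_mem hm⟩} : Set (alternatingGroup (Fin (m + 2))))
  have hle : alternatingGroup (Fin (m + 2)) ≤ S.map (alternatingGroup (Fin (m + 2))).subtype :=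
    alt_le_closure h1 h2 hm ⟨_, Subgroup.subset_closure (Set.mem_insert _ _), rfl⟩
      ⟨_, Subgroup.subset_closure (Set.mem_insert_of_mem _ rfl), rfl⟩
  obtain ⟨g', hg', e⟩ := hle g.2
  rwa [show g = g' from Subtype.ext e.symm]

variable {q : ℕ}

/-- the points moved by the translation -/
def mv (q : ℕ) : ZMod (q + 1) ↪ Fin (q + 1 + 2) where
  toFun x := pt (q + 1) (x.val + 2)
  inj' a b h := by
    have h := congrArg Fin.val h
    simp only [pt, Fin.ofNat] at h
    rw [Nat.mod_eq_of_lt (by have := ZMod.val_lt a; omega),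
      Nat.mod_eq_of_lt (by have := ZMod.val_lt b; omega)] at h
    exact ZMod.val_injective _ (by omega)

theorem via_fix {α β : Type*} [Fintype α] [DecidableEq α] [Fintype β] [DecidableEq β] (e : α ↪ β)
    (g : Perm α) {y : β} (h : ∀ x, e x ≠ y) : Perm.viaEmbeddingHom e g y = y :=
  Perm.viaEmbedding_apply_of_notMem g e _ (by rintro ⟨x, hx⟩; exact h x hx)

theorem via_app {α β : Type*} (e : α ↪ β) (g : Perm α) (x : α) :
    Perm.viaEmbeddingHom e g (e x) = e (g x) :=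
  Perm.viaEmbedding_apply g e x

theorem mv_low (g : Perm (ZMod (q + 1))) {i : ℕ} (hi : i < 2) :
    Perm.viaEmbeddingHom (mv q) g (pt (q + 1) i) = pt (q + 1) i :=
  via_fix _ _ fun x h => pt_ne (q + 1) (by have := ZMod.val_lt x; omega) (by omega)
    (by omega) h

theorem via_zero_conj (g : Perm (ZMod (q + 1))) :
    Perm.viaEmbeddingHom (mv q) g * zc (q + 1) 0 * (Perm.viaEmbeddingHom (mv q) g)⁻¹ =
      zc (q + 1) (g 0).val := by
  set G := Perm.viaEmbeddingHom (mv q) g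
  have h2 : G (pt (q + 1) 2) = pt (q + 1) ((g 0).val + 2) := by
    have := via_app (mv q) g 0
    rw [show mv q 0 = pt (q + 1) 2 by
      show pt (q + 1) ((0 : ZMod (q + 1)).val + 2) = _
      rw [ZMod.val_zero]] at this
    exact this
  rw [zc, zc, show G * (swap (pt (q + 1) 0) (pt (q + 1) 1) * swap (pt (q + 1) 1) (pt (q + 1) 2)) *
      G⁻¹ = (G * swap (pt (q + 1) 0) (pt (q + 1) 1) * G⁻¹) *
        (G * swap (pt (q + 1) 1) (pt (q + 1) 2) * G⁻¹) by group,
    ← swap_apply_apply, ← swap_apply_apply, mv_low g (show 0 < 2 by omega),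
    mv_low g (show 1 < 2 by omega), h2]

theorem swap_conj_zc {n : ℕ} (hn : 1 ≤ n) :
    swap (pt n 0) (pt n 1) * zc n 0 * (swap (pt n 0) (pt n 1))⁻¹ = (zc n 0)⁻¹ := by
  rw [zc, three_inv, swap_inv, ← mul_assoc (swap (pt n 0) (pt n 1)), Equiv.swap_mul_self, one_mul]

theorem addRight_pow (n k : ℕ) :
    (Equiv.addRight (1 : ZMod n)) ^ k = Equiv.addRight (k : ZMod n) := by
  induction k with
  | zero => ext x; simp
  | succ k ih => ext x; rw [pow_succ', ih]; simp [add_assoc]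

theorem sign_addRight (hq : Odd (q + 1)) :
    Perm.sign (Equiv.addRight (1 : ZMod (q + 1))) = 1 := by
  have h : (Equiv.addRight (1 : ZMod (q + 1))) ^ (q + 1) = 1 := by
    rw [addRight_pow, ZMod.natCast_self]
    ext x
    simp
  have h2 := congrArg Perm.sign h
  rw [map_pow, map_one] at h2
  rcases Int.units_eq_one_or (Perm.sign (Equiv.addRight (1 : ZMod (q + 1)))) with e | e
  · exact e
  · rw [e, hq.neg_one_pow] at h2
    simp at h2

/-- the translation, the two multipliers and their parameter -/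
theorem exists_affine (hp : (q + 1).Prime) (h5 : 5 ≤ q + 1) :
    ∃ (t : ℕ) (u : alternatingGroup (Fin (q + 1 + 2))),
      Nat.Coprime t (q + 1) ∧ Nat.Coprime (t + 1) (q + 1) ∧
      (∀ j : ZMod (q + 1), j ≠ 0 → ∃ k : ℕ,
        (t : ZMod (q + 1)) ^ k * j = ((t + 1 : ℕ) : ZMod (q + 1)) ^ k) ∧
      u ^ (q + 1) = 1 ∧
      (∀ i, i < q + 1 →
        (u : Perm (Fin (q + 1 + 2))) ^ i * zc (q + 1) 0 * ((u : Perm (Fin (q + 1 + 2))) ^ i)⁻¹ =
          zc (q + 1) i) ∧
      ∀ s : ℤˣ, ∃ h : Perm (Fin (q + 1 + 2)), Perm.sign h = s ∧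
        h * (u : Perm (Fin (q + 1 + 2))) ^ t * h⁻¹ = (u : Perm (Fin (q + 1 + 2))) ^ (t + 1) ∧
        (h * zc (q + 1) 0 * h⁻¹ = zc (q + 1) 0 ∨ h * zc (q + 1) 0 * h⁻¹ = (zc (q + 1) 0)⁻¹) := by
  have : Fact (q + 1).Prime := ⟨hp⟩
  obtain ⟨r, hr⟩ := IsCyclic.exists_generator (α := (ZMod (q + 1))ˣ)
  have hr1 : (r : ZMod (q + 1)) ≠ 1 := by
    intro e
    have e1 : r = 1 := Units.ext e
    have h2 : ((2 : ZMod (q + 1))) ≠ 0 := by
      rw [show (2 : ZMod (q + 1)) = ((2 : ℕ) : ZMod (q + 1)) by norm_num, Ne,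
        ZMod.natCast_eq_zero_iff]
      exact fun h => by have := Nat.le_of_dvd (by norm_num) h; omega
    obtain ⟨k, hk⟩ := hr (Units.mk0 2 h2)
    rw [e1] at hk
    simp only [one_zpow] at hk
    have : (1 : ZMod (q + 1)) = 2 := congrArg Units.val hk
    exact one_ne_zero (show (1 : ZMod (q + 1)) = 0 by linear_combination -this)
  set t := (((r : ZMod (q + 1)) - 1)⁻¹).val with ht_def
  have htv : (t : ZMod (q + 1)) = ((r : ZMod (q + 1)) - 1)⁻¹ := ZMod.natCast_zmod_val _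
  have ht0 : (t : ZMod (q + 1)) ≠ 0 := by rw [htv]; exact inv_ne_zero (sub_ne_zero.2 hr1)
  have ht1 : ((t + 1 : ℕ) : ZMod (q + 1)) = r * t := by
    have : ((r : ZMod (q + 1)) - 1) * t = 1 := by rw [htv, mul_inv_cancel₀ (sub_ne_zero.2 hr1)]
    push_cast; linear_combination -this
  have cop : ∀ {a : ℕ}, (a : ZMod (q + 1)) ≠ 0 → Nat.Coprime a (q + 1) := fun {a} ha =>
    Nat.Coprime.symm (hp.coprime_iff_not_dvd.2 (by rwa [← ZMod.natCast_eq_zero_iff]))
  let τ : Perm (ZMod (q + 1)) := Equiv.addRight 1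
  have hu : Perm.viaEmbeddingHom (mv q) τ ∈ alternatingGroup (Fin (q + 1 + 2)) := by
    rw [Perm.mem_alternatingGroup, sign_via]
    exact sign_addRight (hp.odd_of_ne_two (by omega))
  refine ⟨t, ⟨_, hu⟩, cop ht0, cop (by rw [ht1]; exact mul_ne_zero r.ne_zero ht0), fun j hj => ?_,
    ?_, fun i hi => ?_, fun s => ?_⟩
  · obtain ⟨k, hk⟩ := mem_zpowers_iff_mem_range_orderOf.1 (hr (Units.mk0 j hj)) |> fun h => by
      simpa using h
    refine ⟨k, ?_⟩
    have : (r : ZMod (q + 1)) ^ k = j := by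
      rw [← Units.val_pow_eq_pow_val, hk.2]; rfl
    rw [ht1, mul_pow, ← this, mul_comm]
  · refine Subtype.ext ?_
    rw [SubmonoidClass.coe_pow, OneMemClass.coe_one]
    show Perm.viaEmbeddingHom (mv q) τ ^ (q + 1) = 1
    rw [← map_pow, show τ ^ (q + 1) = 1 from by
      show Equiv.addRight (1 : ZMod (q + 1)) ^ (q + 1) = 1
      rw [addRight_pow, ZMod.natCast_self]
      ext x
      simp, map_one]
  · show Perm.viaEmbeddingHom (mv q) τ ^ i * _ * _ = _
    rw [← map_pow, via_zero_conj]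
    congr 1
    show ((Equiv.addRight (1 : ZMod (q + 1)) ^ i) 0).val = i
    rw [addRight_pow, Equiv.coe_addRight]
    simp only [zero_add]
    rw [ZMod.val_natCast, Nat.mod_eq_of_lt hi]
  · let μ : Perm (ZMod (q + 1)) := Units.mulLeft r
    set M := Perm.viaEmbeddingHom (mv q) μ
    set S := swap (pt (q + 1) 0) (pt (q + 1) 1)
    have hM2 : M * Perm.viaEmbeddingHom (mv q) τ ^ t * M⁻¹ =
        Perm.viaEmbeddingHom (mv q) τ ^ (t + 1) := by
      simp only [M]
      rw [← map_pow, ← map_pow, ← map_inv, ← map_mul, ← map_mul]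
      congr 1
      rw [mul_inv_eq_iff_eq_mul]
      show μ * Equiv.addRight (1 : ZMod (q + 1)) ^ t = Equiv.addRight (1 : ZMod (q + 1)) ^ (t + 1) * μ
      rw [addRight_pow, addRight_pow, ht1]
      ext x
      simp [μ, mul_add]
    have hMZ : M * zc (q + 1) 0 * M⁻¹ = zc (q + 1) 0 := by
      simp only [M]
      rw [via_zero_conj]
      simp [μ]
    have hSn : Perm.sign S = -1 := Perm.sign_swap (pt_ne _ (by omega) (by omega) zero_ne_one)
    by_cases hs : Perm.sign M = s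
    · exact ⟨M, hs, hM2, Or.inl hMZ⟩
    refine ⟨S * M, ?_, ?_, Or.inr ?_⟩
    · rw [map_mul, hSn]
      rcases Int.units_eq_one_or (Perm.sign M) with e | e <;>
        rcases Int.units_eq_one_or s with e' | e' <;> rw [e, e'] at hs ⊢ <;> first | rfl | simp at hs
    · have hc : ∀ g : Perm (ZMod (q + 1)), S * Perm.viaEmbeddingHom (mv q) g * S⁻¹ =
          Perm.viaEmbeddingHom (mv q) g := fun g => by
        have e : Perm.viaEmbeddingHom (mv q) g * S * (Perm.viaEmbeddingHom (mv q) g)⁻¹ = S := by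
          rw [← swap_apply_apply, mv_low g (show 0 < 2 by omega), mv_low g (show 1 < 2 by omega)]
        rw [mul_inv_eq_iff_eq_mul]
        exact (mul_inv_eq_iff_eq_mul.1 e).symm
      rw [show S * M * Perm.viaEmbeddingHom (mv q) τ ^ t * (S * M)⁻¹ =
        S * (M * Perm.viaEmbeddingHom (mv q) τ ^ t * M⁻¹) * S⁻¹ by group, hM2, ← map_pow, hc]
    · rw [show S * M * zc (q + 1) 0 * (S * M)⁻¹ = S * (M * zc (q + 1) 0 * M⁻¹) * S⁻¹ by group, hMZ]
      exact swap_conj_zc (by omega)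

end CfsgLib.Pres.ShortAlt
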