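import Cfsg.Agent.Lib.Pres.ShortAlt.Core
import Cfsg.Agent.Lib.Pres.ShortAlt.Perms
import Cfsg.Agent.Lib.Pres.OnGens

/-!
Seven relations for large degree, as presentation data.
-/

set_option autoImplicit false

namespace CfsgLib.Pres.ShortAlt

open Equiv CfsgLib.Recog

/-- A presentation from injectivity. -/
theorem presData_of_inj {G : Type*} [Group G] {ι : Type} (f : ι → G) (L : List (FreeGroup ι))
    (hold : ∀ w ∈ L, FreeGroup.lift f w = 1) (hgen : Subgroup.closure (Set.range f) = ⊤)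
    (hinj : Function.Injective
      (PresentedGroup.toGroup (f := f) (rels := {w | w ∈ L}) hold)) : PresData f L := by
  refine ⟨hold, hgen, fun X _ x hx _ => ?_⟩
  set ψ := PresentedGroup.toGroup (f := f) (rels := {w | w ∈ L}) hold
  have hsurj : Function.Surjective ψ := by
    rw [← MonoidHom.range_eq_top, eq_top_iff, ← hgen, Subgroup.closure_le]
    rintro _ ⟨i, rfl⟩
    exact ⟨PresentedGroup.of i, PresentedGroup.toGroup.of _⟩
  let e := MulEquiv.ofBijective ψ ⟨hinj, hsurj⟩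
  refine ⟨(PresentedGroup.toGroup (f := x) (rels := {w | w ∈ L}) hx).comp e.symm.toMonoidHom,
    fun i => ?_⟩
  have : e.symm (f i) = PresentedGroup.of i := by
    rw [MulEquiv.symm_apply_eq]; exact (PresentedGroup.toGroup.of (f := f) hold).symm
  show PresentedGroup.toGroup (f := x) (rels := {w | w ∈ L}) hx (e.symm (f i)) = x i
  rw [this, PresentedGroup.toGroup.of]

section maps

variable {A B : Type*} [Group A] [Group B] (φ : A →* B) (U Z C : A)

theorem map_zn (i : ℕ) : φ (zn U Z i) = zn (φ U) (φ Z) i := by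
  simp only [zn, map_mul, map_inv, map_pow]

theorem map_tt (j : ℕ) : φ (tt U Z C j) = tt (φ U) (φ Z) (φ C) j := by
  simp only [tt, map_mul, map_inv, map_pow, map_zn]

theorem map_PP (a : ℕ) : ∀ l, φ (PP U Z C a l) = PP (φ U) (φ Z) (φ C) a l
  | 0 => map_one φ
  | l + 1 => by rw [PP, PP, map_mul, map_PP a l, map_tt]

theorem map_zn_closure {w : A} (hw : w ∈ Subgroup.closure (Set.range (zn U Z))) :
    φ w ∈ Subgroup.closure (Set.range (zn (φ U) (φ Z))) := by
  have h : Subgroup.closure (Set.range (zn U Z)) ≤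
      (Subgroup.closure (Set.range (zn (φ U) (φ Z)))).comap φ := by
    rw [Subgroup.closure_le]
    rintro _ ⟨i, rfl⟩
    exact Subgroup.subset_closure ⟨i, (map_zn φ U Z i).symm⟩
  exact h hw

end maps

variable {q m : ℕ}

theorem blk_trans (h : q + 1 ≤ m) (h' : q ≤ m) :
    (blk (Nat.le_succ q)).trans (blk h) = blk h' := by
  ext i; rfl

theorem pt_val {i : ℕ} (hi : i < m + 2) : (pt m i).val = i := by
  simp [pt, Fin.ofNat, Nat.mod_eq_of_lt hi]

/-- the image of the intersection under the long cycle -/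
theorem exists_shift (hqm : q + 1 ≤ m) {C : Perm (Fin (m + 2))}
    (hC : ∀ i, 2 ≤ i → i ≤ m → C (pt m i) = pt m (i + 1))
    (hC01 : (C (pt m 0) = pt m 0 ∧ C (pt m 1) = pt m 1) ∨
      (C (pt m 0) = pt m 1 ∧ C (pt m 1) = pt m 0))
    (g : alternatingGroup (Fin (q + 2))) :
    ∃ g' : alternatingGroup (Fin (q + 1 + 2)),
      C * Perm.viaEmbeddingHom (blk (show q ≤ m by omega)) g * C⁻¹ =
        Perm.viaEmbeddingHom (blk hqm) g' := by
  have hlt : ∀ i : Fin (q + 2), (C (blk (show q ≤ m by omega) i)).val < q + 1 + 2 := fun i => by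
    have hi : blk (show q ≤ m by omega) i = pt m i.val :=
      Fin.ext (pt_val (show i.val < m + 2 by omega)).symm
    rw [hi]
    rcases Nat.lt_or_ge i.val 2 with h | h
    · rcases (show i.val = 0 ∨ i.val = 1 by omega) with e | e <;> rw [e] <;>
        rcases hC01 with ⟨a, b⟩ | ⟨a, b⟩ <;>
        simp only [a, b, pt_val (show 0 < m + 2 by omega), pt_val (show 1 < m + 2 by omega)] <;> omega
    · rw [hC _ h (by omega), pt_val (by omega)]; omega
  let e2 : Fin (q + 2) ↪ Fin (q + 1 + 2) :=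
    ⟨fun i => ⟨_, hlt i⟩, fun a b h => (blk (show q ≤ m by omega)).injective
      (C.injective (Fin.ext (Fin.mk.inj h)))⟩
  refine ⟨altMap e2 g, ?_⟩
  rw [via_conj, altMap_coe, via_comp]
  congr 1

theorem tt_perm {C U : Perm (Fin (m + 2))}
    (hC : ∀ i, 2 ≤ i → i ≤ m → C (pt m i) = pt m (i + 1))
    (hC01 : (C (pt m 0) = pt m 0 ∧ C (pt m 1) = pt m 1) ∨
      (C (pt m 0) = pt m 1 ∧ C (pt m 1) = pt m 0))
    (hU : zn U (zc m 0) 1 = zc m 1) :
    ∀ j, j + 1 < m → tt U (zc m 0) C j = tc m j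
  | 0, hj => by rw [tt, hU, pow_zero, one_mul, inv_one, mul_one, tc_eq hj]
  | j + 1, hj => by
    rw [← tc_shift hC hC01 hj, ← tt_perm hC hC01 hU j (by omega), tt, tt, pow_succ']
    group

theorem PP_perm {C U : Perm (Fin (m + 2))}
    (hC : ∀ i, 2 ≤ i → i ≤ m → C (pt m i) = pt m (i + 1))
    (hC01 : (C (pt m 0) = pt m 0 ∧ C (pt m 1) = pt m 1) ∨
      (C (pt m 0) = pt m 1 ∧ C (pt m 1) = pt m 0))
    (hU : zn U (zc m 0) 1 = zc m 1) :
    ∀ l, l + 1 ≤ m → PP U (zc m 0) C 0 l = tprod m l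
  | 0, _ => rfl
  | l + 1, hl => by
    rw [PP, tprod, zero_add, PP_perm hC hC01 hU l (by omega), tt_perm hC hC01 hU l (by omega)]

set_option maxHeartbeats 1000000 in
/-- The seven relations. -/
theorem presData_large {ι : Type} {G : Subgroup (Perm (Fin (m + 2)))} (f : ι → G)
    (hgen : Subgroup.closure (Set.range f) = ⊤) (hp : (q + 1).Prime) (h5 : 5 ≤ q + 1)
    (hpm : q + 1 ≤ m) (hm : m + 2 ≤ 2 * (q + 1)) {t : ℕ} (ht : Nat.Coprime t (q + 1))
    (ht1 : Nat.Coprime (t + 1) (q + 1))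
    (hr : ∀ j : ZMod (q + 1), j ≠ 0 → ∃ k : ℕ,
      (t : ZMod (q + 1)) ^ k * j = ((t + 1 : ℕ) : ZMod (q + 1)) ^ k)
    (u : alternatingGroup (Fin (q + 1 + 2))) (hu : u ^ (q + 1) = 1)
    (huz : ∀ i, i < q + 1 →
      (u : Perm (Fin (q + 1 + 2))) ^ i * zc (q + 1) 0 * ((u : Perm (Fin (q + 1 + 2))) ^ i)⁻¹ =
        zc (q + 1) i)
    (h : Perm (Fin (q + 1 + 2)))
    (hR2 : h * (u : Perm (Fin (q + 1 + 2))) ^ t * h⁻¹ = (u : Perm (Fin (q + 1 + 2))) ^ (t + 1))
    (hR3 : h * zc (q + 1) 0 * h⁻¹ = zc (q + 1) 0 ∨ h * zc (q + 1) 0 * h⁻¹ = (zc (q + 1) 0)⁻¹)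
    {σv : Perm (Fin (m + 2))} {k : ℕ}
    (hk : (k = 1 ∧ σv = 1 ∧ Perm.sign h = 1) ∨
      (k = 2 ∧ σv = swap (pt m 0) (pt m 1) ∧ Perm.sign h = -1))
    (wU wH wC wZ : FreeGroup ι)
    (hU : (FreeGroup.lift f wU : Perm (Fin (m + 2))) = Perm.viaEmbeddingHom (blk hpm) u)
    (hH : (FreeGroup.lift f wH : Perm (Fin (m + 2))) = Perm.viaEmbeddingHom (blk hpm) h)
    (hCv : (FreeGroup.lift f wC : Perm (Fin (m + 2))) = lc σv)
    (hZ : (FreeGroup.lift f wZ : Perm (Fin (m + 2))) = zc m 0)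
    (hcover : ∀ i, FreeGroup.of i ∈ ({wU, wH, wC, wZ} : Set (FreeGroup ι))) :
    ∃ L : List (FreeGroup ι), L.length ≤ 7 ∧ PresData f L := by
  classical
  set F : FreeGroup ι →* Perm (Fin (m + 2)) := G.subtype.comp (FreeGroup.lift f)
  set V := Perm.viaEmbeddingHom (blk hpm)
  change F wU = _ at hU
  change F wH = _ at hH
  change F wC = _ at hCv
  change F wZ = _ at hZ
  have hσv : σv = 1 ∨ σv = swap (pt m 0) (pt m 1) := by
    rcases hk with ⟨-, e, -⟩ | ⟨-, e, -⟩ <;> simp [e]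
  obtain ⟨hC, hC01⟩ := lc_spec (show 1 ≤ m by omega) hσv
  have hzn : ∀ i, i < q + 1 → F (zn wU wZ i) = zc m i := fun i hi => by
    rw [map_zn, hU, hZ, zn, ← via_zc hpm (show 0 < q + 1 by omega), ← map_pow, ← map_inv, ← map_mul,
      ← map_mul, huz i hi, via_zc hpm hi]
  -- words with values in the block
  have hword : ∀ g : alternatingGroup (Fin (q + 1 + 2)),
      ∃ w ∈ Subgroup.closure (Set.range (zn wU wZ)), F w = V g := by
    intro g
    have htop : ((Subgroup.closure (Set.range (zn wU wZ))).map F).comap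
        (V.comp (alternatingGroup _).subtype) = ⊤ :=
      closure_zc (by omega) fun i hi => by
        refine ⟨_, Subgroup.subset_closure ⟨i, rfl⟩, ?_⟩
        rw [hzn i hi]
        exact (via_zc hpm hi).symm
    exact htop.ge (Subgroup.mem_top g)
  obtain ⟨g1, g2, hg⟩ := two_gen_alt (m := q) (by omega)
  have hkmem : h ^ k ∈ alternatingGroup (Fin (q + 1 + 2)) := by
    rw [Perm.mem_alternatingGroup, map_pow]
    rcases hk with ⟨rfl, -, e⟩ | ⟨rfl, -, e⟩ <;> simp [e]
  obtain ⟨g1', hg1'⟩ := exists_shift hpm hC hC01 g1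
  obtain ⟨g2', hg2'⟩ := exists_shift hpm hC hC01 g2
  obtain ⟨nx, hnx, hnxv⟩ := hword (u⁻¹ * altMap (blk (Nat.le_succ q)) g1)
  obtain ⟨nx', hnx', hnxv'⟩ := hword g1'
  obtain ⟨ny, hny, hnyv⟩ := hword ((⟨h ^ k, hkmem⟩ : alternatingGroup _)⁻¹ * altMap (blk (Nat.le_succ q)) g2)
  obtain ⟨ny', hny', hnyv'⟩ := hword g2'
  obtain ⟨ns, sw, hns, hsw, hsv⟩ : ∃ ns sw : FreeGroup ι,
      ns ∈ Subgroup.closure (Set.range (zn wU wZ)) ∧
      ((k = 1 ∧ sw = 1) ∨ (k = 2 ∧ sw = wH * ns ∧ σv = swap (pt m 0) (pt m 1))) ∧ F sw = σv := by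
    rcases hk with ⟨k1, e, -⟩ | ⟨k2, e, hs⟩
    · exact ⟨1, 1, one_mem _, Or.inl ⟨k1, rfl⟩, by rw [map_one, e]⟩
    · have hmem : h⁻¹ * swap (pt (q + 1) 0) (pt (q + 1) 1) ∈ alternatingGroup (Fin (q + 1 + 2)) := by
        rw [Perm.mem_alternatingGroup, map_mul, map_inv, hs,
          Perm.sign_swap (pt_ne _ (by omega) (by omega) zero_ne_one)]
        rfl
      obtain ⟨w, hw, hwv⟩ := hword ⟨_, hmem⟩
      refine ⟨w, wH * w, hw, Or.inr ⟨k2, rfl, e⟩, ?_⟩
      rw [map_mul, hH, hwv, ← map_mul, mul_inv_cancel_left, SymAll.via_swap,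
        blk_pt hpm (by omega), blk_pt hpm (by omega), e]
  have hx : F (wU * nx) = Perm.viaEmbeddingHom (blk (show q ≤ m by omega)) g1 := by
    rw [map_mul, hU, hnxv, ← map_mul, Subgroup.coe_mul, InvMemClass.coe_inv, mul_inv_cancel_left,
      altMap_coe, via_comp, blk_trans]
  have hy : F (wH ^ k * ny) = Perm.viaEmbeddingHom (blk (show q ≤ m by omega)) g2 := by
    rw [map_mul, map_pow, hH, hnyv, ← map_pow, ← map_mul, Subgroup.coe_mul, InvMemClass.coe_inv,
      mul_inv_cancel_left, altMap_coe, via_comp, blk_trans]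
  let r3 : FreeGroup ι := if h * zc (q + 1) 0 * h⁻¹ = zc (q + 1) 0 then wZ else wZ⁻¹
  let L : List (FreeGroup ι) :=
    [wU ^ (q + 1) * (wZ ^ 3)⁻¹, wH * wU ^ t * wH⁻¹ * (wU ^ (t + 1))⁻¹,
      wH * wZ * wH⁻¹ * r3⁻¹, (wZ * zn wU wZ 1) ^ 2, wC * (wU * nx) * wC⁻¹ * nx'⁻¹,
      wC * (wH ^ k * ny) * wC⁻¹ * ny'⁻¹, wC * (sw * PP wU wZ wC 0 (m - 1))⁻¹]
  have hzc : zc m 0 = V (zc (q + 1) 0) := (via_zc hpm (by omega)).symm
  have hF : ∀ w ∈ L, F w = 1 := by
    intro w hw
    simp only [L, List.mem_cons, List.not_mem_nil, or_false] at hw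
    rcases hw with rfl | rfl | rfl | rfl | rfl | rfl | rfl
    · rw [map_mul, map_inv, map_pow, map_pow, hU, hZ, hzc, ← map_pow, ← map_pow,
        ← SubmonoidClass.coe_pow, hu, OneMemClass.coe_one, map_one, one_mul, inv_eq_one]
      have hz3 : zc (q + 1) 0 ^ 3 = 1 := by
        have h01 := pt_ne (q + 1) (show 0 < q + 1 + 2 by omega) (show 1 < q + 1 + 2 by omega) zero_ne_one
        have h0a := pt_ne (q + 1) (show 0 < q + 1 + 2 by omega) (show 2 < q + 1 + 2 by omega) (by omega)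
        have h1a := pt_ne (q + 1) (show 1 < q + 1 + 2 by omega) (show 2 < q + 1 + 2 by omega) (by omega)
        ext y
        simp only [zc, pow_succ, pow_zero, one_mul, Perm.mul_apply, Perm.one_apply, zero_add]
        by_cases y0 : y = pt (q + 1) 0 <;> by_cases y1 : y = pt (q + 1) 1 <;>
          by_cases ya : y = pt (q + 1) 2 <;> simp [swap_apply_def, *] <;> grind
      rw [hz3, map_one]
    · rw [map_mul, map_mul, map_mul, map_inv, map_inv, map_pow, map_pow, hU, hH, ← map_pow,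
        ← map_pow, ← map_inv, ← map_mul, ← map_mul, hR2, mul_inv_cancel]
    · have e : F r3 = V (h * zc (q + 1) 0 * h⁻¹) := by
        simp only [r3]
        split_ifs with e
        · rw [hZ, hzc, e]
        · rw [map_inv, hZ, hzc, hR3.resolve_left e, map_inv]
      rw [map_mul, map_mul, map_mul, map_inv, map_inv, e, hH, hZ, hzc, ← map_inv, ← map_mul,
        ← map_mul, mul_inv_cancel]
    · rw [map_pow, map_mul, hZ, hzn 1 (by omega)]
      have h01 := pt_ne m (show 0 < m + 2 by omega) (show 1 < m + 2 by omega) zero_ne_one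
      have h0a := pt_ne m (show 0 < m + 2 by omega) (show 2 < m + 2 by omega) (by omega)
      have h1a := pt_ne m (show 1 < m + 2 by omega) (show 2 < m + 2 by omega) (by omega)
      have h0b := pt_ne m (show 0 < m + 2 by omega) (show 3 < m + 2 by omega) (by omega)
      have h1b := pt_ne m (show 1 < m + 2 by omega) (show 3 < m + 2 by omega) (by omega)
      have hab := pt_ne m (show 2 < m + 2 by omega) (show 3 < m + 2 by omega) (by omega)
      ext y
      simp only [zc, pow_two, Perm.mul_apply, Perm.one_apply, zero_add]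
      by_cases y0 : y = pt m 0 <;> by_cases y1 : y = pt m 1 <;> by_cases ya : y = pt m 2 <;>
        by_cases yb : y = pt m 3 <;> simp [swap_apply_def, *] <;> grind
    · rw [map_mul, map_mul, map_mul, map_inv, map_inv, hx, hCv, hg1', hnxv', mul_inv_cancel]
    · rw [map_mul, map_mul, map_mul, map_inv, map_inv, hy, hCv, hg2', hnyv', mul_inv_cancel]
    · rw [map_mul, map_inv, map_mul, map_PP, hsv, hU, hZ, hCv,
        PP_perm hC hC01 (by rw [← hU, ← hZ, ← map_zn, hzn 1 (by omega)]) _ (by omega)]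
      exact mul_inv_cancel _
  have hold : ∀ w ∈ L, FreeGroup.lift f w = 1 := fun w hw => Subtype.ext (hF w hw)
  refine ⟨L, le_rfl, presData_of_inj f L hold hgen ?_⟩
  set R : Set (FreeGroup ι) := {w | w ∈ L}
  let Φ := PresentedGroup.toGroup (f := f) (rels := R) hold
  let π : PresentedGroup R →* Perm (Fin (m + 2)) := G.subtype.comp Φ
  let ρ := PresentedGroup.mk R
  have hπ : ∀ w, π (ρ w) = F w := fun w =>
    DFunLike.congr_fun (FreeGroup.ext_hom (π.comp ρ) F fun i => by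
      show G.subtype (Φ (PresentedGroup.of i)) = G.subtype (FreeGroup.lift f (FreeGroup.of i))
      rw [show Φ (PresentedGroup.of i) = f i from PresentedGroup.toGroup.of _,
        FreeGroup.lift_apply_of]) w
  have hρ : ∀ {a b : FreeGroup ι}, a * b⁻¹ ∈ L → ρ a = ρ b := fun {a b} hab =>
    mul_inv_eq_one.1 (by rw [← map_inv, ← map_mul]; exact PresentedGroup.one_of_mem hab)
  have R1 := hρ (a := wU ^ (q + 1)) (b := wZ ^ 3) (by simp [L])
  have R2 := hρ (a := wH * wU ^ t * wH⁻¹) (b := wU ^ (t + 1)) (by simp [L])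
  have R3 := hρ (a := wH * wZ * wH⁻¹) (b := r3) (by simp [L])
  have R4 : ρ ((wZ * zn wU wZ 1) ^ 2) = 1 :=
    PresentedGroup.one_of_mem (show (wZ * zn wU wZ 1) ^ 2 ∈ R by simp [R, L])
  have R5 := hρ (a := wC * (wU * nx) * wC⁻¹) (b := nx') (by simp [L])
  have R6 := hρ (a := wC * (wH ^ k * ny) * wC⁻¹) (b := ny') (by simp [L])
  have R7 := hρ (a := wC) (b := sw * PP wU wZ wC 0 (m - 1)) (by simp [L])
  simp only [map_mul, map_inv, map_pow, map_zn, map_PP] at R1 R2 R3 R4 R5 R6 R7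
  have P : Pack q m π :=
    { hp := hp
      h5 := h5
      hpm := hpm
      hm := hm
      U := ρ wU
      H := ρ wH
      C := ρ wC
      Z := ρ wZ
      hgen := by
        rw [eq_top_iff, ← PresentedGroup.closure_range_of R]
        refine Subgroup.closure_mono ?_
        rintro _ ⟨i, rfl⟩
        rcases hcover i with e | e | e | e
        all_goals
          rw [show PresentedGroup.of (rels := R) i = ρ (FreeGroup.of i) from rfl, e]
          simp
      πz := fun i hi => by rw [← map_zn, hπ, hzn i hi]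
      πC := fun i h1 h2 => by rw [hπ, hCv, hC i h1 h2]
      πC01 := by rw [hπ, hCv]; exact hC01
      t := t
      ht := ht
      ht1 := ht1
      hr := hr
      R1 := R1
      R2 := R2
      R3 := by
        rw [R3]; simp only [r3]
        split_ifs
        · exact Or.inl rfl
        · exact Or.inr (map_inv ρ wZ)
      R4 := R4
      k := k
      nx := ρ nx
      nx' := ρ nx'
      ny := ρ ny
      ny' := ρ ny'
      ns := ρ ns
      σ := ρ sw
      hnx := map_zn_closure ρ _ _ hnx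
      hnx' := map_zn_closure ρ _ _ hnx'
      hny := map_zn_closure ρ _ _ hny
      hny' := map_zn_closure ρ _ _ hny'
      hns := map_zn_closure ρ _ _ hns
      g1 := g1
      g2 := g2
      hg := hg
      πx := by rw [← map_mul, hπ, hx]
      πy := by rw [← map_pow, ← map_mul, hπ, hy]
      R5 := R5
      R6 := R6
      hσ := by
        rcases hsw with ⟨a, b⟩ | ⟨a, b, c⟩
        · exact Or.inl ⟨a, by rw [b, map_one]⟩
        · exact Or.inr ⟨a, by rw [b, map_mul], by rw [hπ, hsv, c]⟩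
      R7 := R7 }
  intro a b hab
  exact P.π_injective (congrArg Subtype.val hab)

end CfsgLib.Pres.ShortAlt
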