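import Cfsg.Agent.Lib.Pres.ShortAlt.Carm
import Cfsg.Agent.Lib.Pres.SymAll

/-!
Embeddings of alternating groups, and perfect subgroups of a metabelian extension.
-/

set_option autoImplicit false

namespace CfsgLib.Pres.ShortAlt

open Equiv CfsgLib.Recog

variable {α β γ : Type*} [Fintype α] [DecidableEq α] [Fintype β] [DecidableEq β]

theorem sign_via (e : α ↪ β) (g : Perm α) : Perm.sign (Perm.viaEmbeddingHom e g) = Perm.sign g := by
  induction g using Perm.swap_induction_on with
  | one => rw [map_one, map_one, map_one]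
  | swap_mul f x y hxy ih =>
    rw [map_mul, map_mul, map_mul, ih, SymAll.via_swap, Perm.sign_swap hxy,
      Perm.sign_swap (e.injective.ne hxy)]

/-- the homomorphism of alternating groups of an embedding -/
noncomputable def altMap (e : α ↪ β) : alternatingGroup α →* alternatingGroup β :=
  ((Perm.viaEmbeddingHom e).comp (alternatingGroup α).subtype).codRestrict (alternatingGroup β)
    fun g => by
      rw [MonoidHom.comp_apply, Perm.mem_alternatingGroup, sign_via]
      exact Perm.mem_alternatingGroup.1 g.2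

theorem altMap_coe (e : α ↪ β) (g : alternatingGroup α) :
    (altMap e g : Perm β) = Perm.viaEmbeddingHom e g := rfl

theorem altMap_inj (e : α ↪ β) : Function.Injective (altMap e) := fun _ _ h =>
  Subtype.ext (Perm.viaEmbeddingHom_injective e (congrArg Subtype.val h))

theorem via_comp [DecidableEq γ] (e : α ↪ β) (f : β ↪ γ) (g : Perm α) :
    Perm.viaEmbeddingHom f (Perm.viaEmbeddingHom e g) = Perm.viaEmbeddingHom (e.trans f) g := by
  induction g using Perm.swap_induction_on with
  | one => simp only [map_one]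
  | swap_mul k x y hxy ih =>
    simp only [map_mul, ih, SymAll.via_swap, Function.Embedding.trans_apply]

theorem via_conj (e : α ↪ β) (σ : Perm β) (g : Perm α) :
    σ * Perm.viaEmbeddingHom e g * σ⁻¹ = Perm.viaEmbeddingHom (e.trans σ.toEmbedding) g := by
  induction g using Perm.swap_induction_on with
  | one => simp only [map_one, mul_one, mul_inv_cancel]
  | swap_mul k x y hxy ih =>
    rw [map_mul, map_mul, ← ih, SymAll.via_swap, SymAll.via_swap,
      show (e.trans σ.toEmbedding) x = σ (e x) from rfl,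
      show (e.trans σ.toEmbedding) y = σ (e y) from rfl, swap_apply_apply]
    group

variable {m p : ℕ}

/-- the first points -/
def blk (h : p ≤ m) : Fin (p + 2) ↪ Fin (m + 2) := Fin.castLEEmb (by omega)

theorem blk_pt (h : p ≤ m) {i : ℕ} (hi : i < p + 2) : blk h (pt p i) = pt m i := by
  refine Fin.ext ?_
  simp [blk, pt, Fin.ofNat, Nat.mod_eq_of_lt hi, Nat.mod_eq_of_lt (show i < m + 2 by omega)]

theorem via_zc (h : p ≤ m) {i : ℕ} (hi : i < p) :
    Perm.viaEmbeddingHom (blk h) (zc p i) = zc m i := by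
  rw [zc, map_mul, SymAll.via_swap, SymAll.via_swap, blk_pt h (by omega), blk_pt h (by omega),
    blk_pt h (by omega), zc]

theorem via_tc (h : p ≤ m) {i : ℕ} (hi : i + 1 < p) :
    Perm.viaEmbeddingHom (blk h) (tc p i) = tc m i := by
  rw [tc, map_mul, SymAll.via_swap, SymAll.via_swap, blk_pt h (by omega), blk_pt h (by omega),
    blk_pt h (by omega), blk_pt h (by omega), tc]

theorem closure_zc (hm : 1 ≤ m) {R : Subgroup (alternatingGroup (Fin (m + 2)))}
    (h : ∀ i (hi : i < m), (⟨zc m i, zc_mem hi⟩ : alternatingGroup (Fin (m + 2))) ∈ R) : R = ⊤ := by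
  rw [eq_top_iff]
  intro g _
  have hle : alternatingGroup (Fin (m + 2)) ≤ R.map (alternatingGroup (Fin (m + 2))).subtype := by
    refine closure_seq hm ⟨_, h 0 hm, rfl⟩ fun j hj => ?_
    rw [tc_eq hj]
    exact mul_mem (mul_mem ⟨_, h j (by omega), rfl⟩ (inv_mem ⟨_, h (j + 1) hj, rfl⟩))
      ⟨_, h j (by omega), rfl⟩
  obtain ⟨g', hg', e⟩ := hle g.2
  rwa [show g = g' from Subtype.ext e.symm]

/-- A perfect group in a metabelian extension lies in the kernel. -/
theorem perfect_le {X P : Type*} [Group X] [Group P] (hP : commutator P = ⊤) (ψ : P →* X)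
    (N : Subgroup X) {U H : X} (hU : ∀ n ∈ N, U * n * U⁻¹ ∈ N) (hU' : ∀ n ∈ N, U⁻¹ * n * U ∈ N)
    (hH : ∀ n ∈ N, H * n * H⁻¹ ∈ N) (hH' : ∀ n ∈ N, H⁻¹ * n * H ∈ N) {q t : ℕ} (hUq : U ^ q = 1)
    (ht : Nat.Coprime t q) (ht1 : Nat.Coprime (t + 1) q) (hconj : H * U ^ t * H⁻¹ = U ^ (t + 1))
    (hψ : ∀ a, ψ a ∈ N ⊔ Subgroup.closure {U, H}) (a : P) : ψ a ∈ N := by
  set G := N ⊔ Subgroup.closure {U, H}
  have hGn : G ≤ Subgroup.normalizer (N : Set X) := by
    refine sup_le Subgroup.le_normalizer ?_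
    rw [Subgroup.closure_le]
    have key : ∀ g : X, (∀ n ∈ N, g * n * g⁻¹ ∈ N) → (∀ n ∈ N, g⁻¹ * n * g ∈ N) →
        g ∈ Subgroup.normalizer (N : Set X) := fun g h1 h2 => by
      rw [Subgroup.mem_normalizer_iff]
      refine fun n => ⟨h1 n, fun hn => ?_⟩
      have := h2 _ hn
      rwa [show g⁻¹ * (g * n * g⁻¹) * g = n by group] at this
    rintro g (rfl | rfl)
    exacts [key _ hU hU', key _ hH hH']
  have : (N.subgroupOf G).Normal := Subgroup.normal_subgroupOf_of_le_normalizer hGn
  let Uc : G := ⟨U, Subgroup.mem_sup_right (Subgroup.subset_closure (Set.mem_insert _ _))⟩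
  let Hc : G := ⟨H, Subgroup.mem_sup_right (Subgroup.subset_closure (Set.mem_insert_of_mem _ rfl))⟩
  set π := QuotientGroup.mk' (N.subgroupOf G)
  set u := π Uc
  set h := π Hc
  have hgenQ : Subgroup.closure ({u, h} : Set (G ⧸ N.subgroupOf G)) = ⊤ := by
    rw [eq_top_iff]
    intro x _
    obtain ⟨⟨g, hg⟩, rfl⟩ := QuotientGroup.mk'_surjective _ x
    have : G ≤ ((Subgroup.closure ({u, h} : Set _)).comap π).map G.subtype := by
      refine sup_le (fun n hn => ?_) ?_
      · refine ⟨⟨n, Subgroup.mem_sup_left hn⟩, ?_, rfl⟩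
        rw [SetLike.mem_coe, Subgroup.mem_comap, show π ⟨n, Subgroup.mem_sup_left hn⟩ = 1 from
          (QuotientGroup.eq_one_iff _).2 hn]
        exact one_mem _
      · rw [Subgroup.closure_le]
        rintro _ (rfl | rfl)
        · exact ⟨Uc, Subgroup.subset_closure (Set.mem_insert _ _), rfl⟩
        · exact ⟨Hc, Subgroup.subset_closure (Set.mem_insert_of_mem _ rfl), rfl⟩
    obtain ⟨g', hg', e⟩ := this hg
    rw [show (⟨g, hg⟩ : G) = g' from Subtype.ext e.symm]
    exact hg'
  have hu : u ^ q = 1 := by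
    rw [← map_pow, show Uc ^ q = 1 from Subtype.ext hUq, map_one]
  have hc : h * u ^ t * h⁻¹ = u ^ (t + 1) := by
    rw [← map_pow, ← map_inv, ← map_mul, ← map_mul, ← map_pow]
    exact congrArg π (Subtype.ext hconj)
  have hgcd : ∀ {s : ℕ}, Nat.Coprime s q → ∀ {D : Subgroup (G ⧸ N.subgroupOf G)},
      ∀ {y : G ⧸ N.subgroupOf G}, y ^ q = 1 → y ^ s ∈ D → y ∈ D := by
    intro s hs D y hy hyD
    have e : (s : ℤ) * s.gcdA q + q * s.gcdB q = 1 := by
      rw [← Nat.gcd_eq_gcd_ab, hs, Nat.cast_one]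
    rw [← zpow_one y, ← e, zpow_add, zpow_mul, zpow_mul, zpow_natCast, zpow_natCast, hy,
      one_zpow, mul_one]
    exact zpow_mem hyD _
  set D := Subgroup.zpowers u
  have hDn : D.Normal := by
    have h1 : h * u * h⁻¹ ∈ D := by
      refine hgcd ht (by rw [conj_pow, hu, mul_one, mul_inv_cancel]) ?_
      rw [conj_pow, hc]
      exact pow_mem (Subgroup.mem_zpowers u) _
    have h2 : h⁻¹ * u * h ∈ D := by
      have e : ∀ k : ℕ, (h⁻¹ * u * h) ^ k = h⁻¹ * u ^ k * h := fun k => by
        have := conj_pow (a := h⁻¹) (b := u) (i := k)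
        rwa [inv_inv] at this
      refine hgcd ht1 (by rw [e, hu, mul_one, inv_mul_cancel]) ?_
      rw [e, ← hc, show h⁻¹ * (h * u ^ t * h⁻¹) * h = u ^ t by group]
      exact pow_mem (Subgroup.mem_zpowers u) _
    rw [← Subgroup.normalizer_eq_top_iff, eq_top_iff, ← hgenQ, Subgroup.closure_le]
    have key : ∀ g, g * u * g⁻¹ ∈ D → g⁻¹ * u * g ∈ D →
        g ∈ Subgroup.normalizer (D : Set (G ⧸ N.subgroupOf G)) := fun g a b => by
      rw [Subgroup.mem_normalizer_iff]
      intro n
      refine ⟨fun hn => ?_, fun hn => ?_⟩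
      · obtain ⟨k, rfl⟩ := hn
        show g * u ^ k * g⁻¹ ∈ D
        rw [← conj_zpow]; exact zpow_mem a k
      · obtain ⟨k, hk⟩ := hn
        have hk : u ^ k = g * n * g⁻¹ := hk
        rw [show n = g⁻¹ * u ^ k * g by rw [hk]; group]
        have := conj_zpow (a := g⁻¹) (b := u) (i := k)
        rw [inv_inv] at this
        rw [← this]; exact zpow_mem b k
    rintro g (rfl | rfl)
    · exact key _ (by rw [mul_inv_cancel_right]; exact Subgroup.mem_zpowers u)
        (by rw [inv_mul_cancel, one_mul]; exact Subgroup.mem_zpowers u)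
    · exact key _ h1 h2
  have hstep : ∀ {R : Type _} [Group R] (f : P →* R), (∀ a b, Commute (f a) (f b)) → ∀ a, f a = 1 := by
    intro R _ f hf a
    have hle : commutator P ≤ f.ker := by
      rw [commutator_def, Subgroup.commutator_le]
      intro x _ y _
      rw [MonoidHom.mem_ker, map_commutatorElement, commutatorElement_eq_one_iff_commute]
      exact hf x y
    exact hle (hP ▸ Subgroup.mem_top a)
  let f : P →* G := ψ.codRestrict G hψ
  let f2 : P →* (G ⧸ N.subgroupOf G) ⧸ D := ((QuotientGroup.mk' D).comp π).comp f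
  have hcomm : ∀ x y : (G ⧸ N.subgroupOf G) ⧸ D, Commute x y := by
    have hz : ∀ x : (G ⧸ N.subgroupOf G) ⧸ D, x ∈ Subgroup.zpowers (QuotientGroup.mk' D h) := by
      intro x
      obtain ⟨y, rfl⟩ := QuotientGroup.mk'_surjective _ x
      have hle : (⊤ : Subgroup (G ⧸ N.subgroupOf G)) ≤
          (Subgroup.zpowers (QuotientGroup.mk' D h)).comap (QuotientGroup.mk' D) := by
        rw [← hgenQ, Subgroup.closure_le]
        rintro _ (rfl | rfl)
        · rw [SetLike.mem_coe, Subgroup.mem_comap,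
            show QuotientGroup.mk' D u = 1 from (QuotientGroup.eq_one_iff _).2 (Subgroup.mem_zpowers u)]
          exact one_mem _
        · exact Subgroup.mem_zpowers _
      exact hle (Subgroup.mem_top y)
    intro x y
    obtain ⟨i, rfl⟩ := hz x
    obtain ⟨j, rfl⟩ := hz y
    exact Commute.zpow_zpow (Commute.refl _) i j
  have hD : ∀ a, π (f a) ∈ D := fun a =>
    (QuotientGroup.eq_one_iff _).1 (hstep f2 (fun a b => hcomm _ _) a)
  have h1 := hstep (π.comp f) (fun a b => by
    obtain ⟨i, hi⟩ := hD a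
    obtain ⟨j, hj⟩ := hD b
    show Commute (π (f a)) (π (f b))
    rw [← hi, ← hj]
    exact Commute.zpow_zpow (Commute.refl u) i j) a
  exact (QuotientGroup.eq_one_iff (f a)).1 h1

end CfsgLib.Pres.ShortAlt
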