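import Cfsg.Agent.Lib.Pres.ShortAlt.Small
import Cfsg.Agent.Lib.Pres.Pad
import Cfsg.Agent.Lib.Pres.TwoGenPres
import Cfsg.Agent.Lib.Pres.SymSmall

/-!
Short presentations of the symmetric and alternating groups.
-/

set_option autoImplicit false

namespace CfsgLib.Pres.ShortAlt

open Equiv CfsgLib.Recog

/-- The two targets. -/
def Target (m : ℕ) (G : Subgroup (Perm (Fin (m + 2)))) (σv : Perm (Fin (m + 2))) : Prop :=
  (σv = 1 ∧ G = alternatingGroup (Fin (m + 2))) ∨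
    (σv = swap (pt m 0) (pt m 1) ∧ G = ⊤ ∧ 2 ≤ m)

variable {m : ℕ} {G : Subgroup (Perm (Fin (m + 2)))} {σv : Perm (Fin (m + 2))}

theorem Target.alt_le (h : Target m G σv) : alternatingGroup (Fin (m + 2)) ≤ G := by
  rcases h with ⟨-, rfl⟩ | ⟨-, rfl, -⟩
  · exact le_rfl
  · exact le_top

theorem Target.lc_mem (h : Target m G σv) (hm : 1 ≤ m) : lc σv ∈ G := by
  rcases h with ⟨rfl, rfl⟩ | ⟨-, rfl, -⟩
  · rw [lc, one_mul]; exact tprod_mem (by omega)
  · trivial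

theorem Target.gen (h : Target m G σv) (hm : 1 ≤ m) {ι : Type} (f : ι → G) {i j : ι}
    (hi : (f i : Perm (Fin (m + 2))) = lc σv) (hj : (f j : Perm (Fin (m + 2))) = zc m 0) :
    Subgroup.closure (Set.range f) = ⊤ := by
  have hσv : σv = 1 ∨ σv = swap (pt m 0) (pt m 1) := h.imp And.left And.left
  obtain ⟨hC, hC01⟩ := lc_spec hm hσv
  set S := (Subgroup.closure (Set.range f)).map G.subtype
  have hCS : lc σv ∈ S := ⟨f i, Subgroup.subset_closure ⟨i, rfl⟩, hi⟩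
  have hA : alternatingGroup (Fin (m + 2)) ≤ S :=
    alt_le_closure hC hC01 hm hCS ⟨f j, Subgroup.subset_closure ⟨j, rfl⟩, hj⟩
  have hGS : G ≤ S := by
    intro g hg
    rcases h with ⟨-, rfl⟩ | ⟨rfl, rfl, h2⟩
    · exact hA hg
    rcases Int.units_eq_one_or (Perm.sign g) with e | e
    · exact hA (Perm.mem_alternatingGroup.2 e)
    · have : g * (lc (swap (pt m 0) (pt m 1)))⁻¹ ∈ S := by
        refine hA (Perm.mem_alternatingGroup.2 ?_)
        rw [map_mul, map_inv, lc, map_mul, e,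
          Perm.sign_swap (pt_ne m (by omega) (by omega) zero_ne_one),
          Perm.mem_alternatingGroup.1 (tprod_mem (by omega))]
        rfl
      have := mul_mem this hCS
      rwa [inv_mul_cancel_right] at this
  rw [eq_top_iff]
  intro g _
  obtain ⟨g', hg', e⟩ := hGS g.2
  rwa [show g = g' from Subtype.ext e.symm]

theorem exists_prime_block (hm : 5 ≤ m) :
    ∃ q, (q + 1).Prime ∧ 5 ≤ q + 1 ∧ q + 1 ≤ m ∧ m + 2 ≤ 2 * (q + 1) := by
  by_cases h : m ≤ 6
  · exact ⟨4, by norm_num, le_rfl, by omega, by omega⟩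
  obtain ⟨p, hp, h1, h2⟩ := Nat.exists_prime_lt_and_le_two_mul ((m + 1) / 2) (by omega)
  refine ⟨p - 1, ?_⟩
  rw [Nat.sub_add_cancel hp.one_le]
  refine ⟨hp, by omega, ?_, by omega⟩
  by_contra hc
  have hev : p = 2 * ((m + 1) / 2) := by omega
  have := (Nat.prime_dvd_prime_iff_eq Nat.prime_two hp).1 ⟨_, hev⟩
  omega

/-- Two and three generators for large degree. -/
theorem pres_big (h : Target m G σv) (hm : 5 ≤ m) :
    (∃ (f : Fin 2 → G) (L : List (FreeGroup (Fin 2))), L.length ≤ 7 ∧ PresData f L) ∧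
      ∃ (f : Fin 3 → G) (L : List (FreeGroup (Fin 3))), L.length ≤ 7 ∧ PresData f L := by
  obtain ⟨q, hp, h5, hpm, hbd⟩ := exists_prime_block hm
  obtain ⟨t, u, ht, ht1, hr, hu, huz, hex⟩ := exists_affine hp h5
  obtain ⟨s, k, hk⟩ : ∃ (s : ℤˣ) (k : ℕ), (k = 1 ∧ σv = 1 ∧ s = 1 ∧ G = alternatingGroup _) ∨
      (k = 2 ∧ σv = swap (pt m 0) (pt m 1) ∧ s = -1 ∧ G = ⊤) := by
    rcases h with ⟨e, e'⟩ | ⟨e, e', -⟩
    · exact ⟨1, 1, Or.inl ⟨rfl, e, rfl, e'⟩⟩
    · exact ⟨-1, 2, Or.inr ⟨rfl, e, rfl, e'⟩⟩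
  obtain ⟨hh, hhs, hR2, hR3⟩ := hex s
  have hk' : (k = 1 ∧ σv = 1 ∧ Perm.sign hh = 1) ∨
      (k = 2 ∧ σv = swap (pt m 0) (pt m 1) ∧ Perm.sign hh = -1) :=
    hk.imp (fun ⟨a, b, c, _⟩ => ⟨a, b, hhs.trans c⟩) (fun ⟨a, b, c, _⟩ => ⟨a, b, hhs.trans c⟩)
  have hUG : Perm.viaEmbeddingHom (blk hpm) (u : Perm (Fin (q + 1 + 2))) ∈ G :=
    h.alt_le (Perm.mem_alternatingGroup.2 (by rw [sign_via]; exact Perm.mem_alternatingGroup.1 u.2))
  have hHG : Perm.viaEmbeddingHom (blk hpm) hh ∈ G := by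
    rcases hk with ⟨-, -, e, rfl⟩ | ⟨-, -, -, rfl⟩
    · rw [Perm.mem_alternatingGroup, sign_via, hhs, e]
    · trivial
  let cG : G := ⟨lc σv, h.lc_mem (by omega)⟩
  let zG : G := ⟨zc m 0, h.alt_le (zc_mem (by omega))⟩
  constructor
  · have hgen : Subgroup.closure (Set.range ![cG, zG]) = ⊤ :=
      h.gen (by omega) _ (i := 0) (j := 1) rfl rfl
    obtain ⟨wU, hwU⟩ := exists_word hgen ⟨_, hUG⟩
    obtain ⟨wH, hwH⟩ := exists_word hgen ⟨_, hHG⟩
    exact ⟨_, presData_large ![cG, zG] hgen hp h5 hpm hbd ht ht1 hr u hu huz hh hR2 hR3 hk'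
      wU wH (FreeGroup.of 0) (FreeGroup.of 1) (by rw [hwU]) (by rw [hwH]) (by simp [cG]) (by simp [zG])
      (by simp [Fin.forall_fin_two])⟩
  · let hG : G := ⟨_, hHG⟩
    have hgen : Subgroup.closure (Set.range ![cG, zG, hG]) = ⊤ :=
      h.gen (by omega) _ (i := 0) (j := 1) rfl rfl
    obtain ⟨wU, hwU⟩ := exists_word hgen ⟨_, hUG⟩
    exact ⟨_, presData_large ![cG, zG, hG] hgen hp h5 hpm hbd ht ht1 hr u hu huz hh hR2 hR3 hk'
      wU (FreeGroup.of 2) (FreeGroup.of 0) (FreeGroup.of 1) (by rw [hwU]) (by simp [hG]) (by simp [cG])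
      (by simp [zG]) (by simp [Fin.forall_fin_succ])⟩

theorem pres_small (h : Target m G σv) (hm : 1 ≤ m) :
    ∃ (f : Fin 2 → G) (L : List (FreeGroup (Fin 2))), L.length ≤ m + 1 ∧ PresData f L := by
  let cG : G := ⟨lc σv, h.lc_mem hm⟩
  let zG : G := ⟨zc m 0, h.alt_le (zc_mem hm)⟩
  exact ⟨_, presData_small hm (h.imp And.left fun a => ⟨a.1, a.2.2⟩) ![cG, zG] rfl rfl
    (h.gen hm _ (i := 0) (j := 1) rfl rfl)⟩

theorem pres_pair (h : Target m G σv) (hm : 1 ≤ m) :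
    ∃ (f : Fin 2 → G) (L : List (FreeGroup (Fin 2))), L.length ≤ 7 ∧ PresData f L := by
  by_cases h5 : 5 ≤ m
  · exact (pres_big h h5).1
  · obtain ⟨f, L, hL, hd⟩ := pres_small h hm
    exact ⟨f, L, by omega, hd⟩

theorem pres_triple (h : Target m G σv) (hm : 1 ≤ m) :
    ∃ rels : Finset (FreeGroup (Fin 3)), rels.card ≤ 7 ∧
      Nonempty (PresentedGroup (rels : Set (FreeGroup (Fin 3))) ≃* G) := by
  by_cases h5 : 5 ≤ m
  · obtain ⟨f, L, hL, hd⟩ := (pres_big h h5).2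
    exact hd.presented hL
  · obtain ⟨f, L, hL, hd⟩ := pres_small h hm
    exact hd.presented_fin (by simp) (by simp; omega)

theorem target_alt (m : ℕ) : Target m (alternatingGroup (Fin (m + 2))) 1 := Or.inl ⟨rfl, rfl⟩

theorem target_sym (hm : 2 ≤ m) : Target m ⊤ (swap (pt m 0) (pt m 1)) := Or.inr ⟨rfl, rfl, hm⟩

theorem presData_subsingleton (K : Type*) [Group K] [Subsingleton K] :
    ∃ (f : Fin 0 → K) (L : List (FreeGroup (Fin 0))), L.length ≤ 0 ∧ PresData f L :=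
  ⟨Fin.elim0, [], le_rfl, by simp, Subsingleton.elim _ _, fun _ _ _ _ _ => ⟨1, fun i => i.elim0⟩⟩

/-- Two generators and seven relations plus a pad, for each degree. -/
theorem sym_two (n : ℕ) : ∃ rels : Finset (FreeGroup (Fin 2)), rels.card ≤ 8 ∧
    Nonempty (PresentedGroup (rels : Set (FreeGroup (Fin 2))) ≃* Perm (Fin n)) := by
  rcases (show n ≤ 1 ∨ n = 2 ∨ n = 3 ∨ 4 ≤ n by omega) with h | rfl | rfl | h
  · have : Subsingleton (Fin n) := Fin.subsingleton_iff_le_one.2 h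
    obtain ⟨f, L, hL, hd⟩ := presData_subsingleton (Perm (Fin n))
    exact hd.presented_fin (by simp) (by simp; omega)
  · obtain ⟨f, L, hL, hd⟩ := SymSmall.presData_cox 1
    exact hd.presented_fin (by simp) (by simp; omega)
  · obtain ⟨f, L, hL, hd⟩ := SymSmall.presData_cox 2
    exact hd.presented_fin (by simp) (by simp; omega)
  · obtain ⟨m, rfl⟩ : ∃ m, n = m + 2 := ⟨n - 2, by omega⟩
    obtain ⟨f, L, hL, hd⟩ := pres_pair (target_sym (show 2 ≤ m by omega)) (by omega)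
    exact (hd.map Subgroup.topEquiv).presented (by omega)

theorem alt_two (n : ℕ) : ∃ rels : Finset (FreeGroup (Fin 2)), rels.card ≤ 8 ∧
    Nonempty (PresentedGroup (rels : Set (FreeGroup (Fin 2))) ≃* alternatingGroup (Fin n)) := by
  rcases (show n ≤ 2 ∨ 3 ≤ n by omega) with h | h
  · have : Subsingleton (alternatingGroup (Fin n)) := by
      rw [subsingleton_iff]
      intro a b
      rcases (show n = 0 ∨ n = 1 ∨ n = 2 by omega) with rfl | rfl | rfl
      · exact Subsingleton.elim a b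
      · exact Subsingleton.elim a b
      · revert a b; decide
    obtain ⟨f, L, hL, hd⟩ := presData_subsingleton (alternatingGroup (Fin n))
    exact hd.presented_fin (by simp) (by simp; omega)
  · obtain ⟨m, rfl⟩ : ∃ m, n = m + 2 := ⟨n - 2, by omega⟩
    obtain ⟨f, L, hL, hd⟩ := pres_pair (target_alt m) (by omega)
    exact hd.presented (by omega)

theorem presented_vals {K : Type*} [Group K] {ι : Type} {f : ι → K} {L : List (FreeGroup ι)}
    (h : PresData f L) {r : ℕ} (hr : L.length ≤ r) :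
    ∃ rels : Finset (FreeGroup ι), rels.card ≤ r ∧
      ∃ e : PresentedGroup (rels : Set (FreeGroup ι)) ≃* K, ∀ i, e (PresentedGroup.of i) = f i := by
  classical
  set R : Set (FreeGroup ι) := (L.toFinset : Set (FreeGroup ι))
  have hmem : ∀ {w}, w ∈ R ↔ w ∈ L := fun {w} => by simp [R]
  obtain ⟨φ, hφ⟩ := h.2.2 (PresentedGroup R) PresentedGroup.of (fun w hw => by
    rw [val_eq_lift]; exact PresentedGroup.one_of_mem (hmem.2 hw))
    (PresentedGroup.closure_range_of R)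
  let ψ := PresentedGroup.toGroup (f := f) (rels := R) fun w hw => h.1 w (hmem.1 hw)
  refine ⟨L.toFinset, L.toFinset_card_le.trans hr, MonoidHom.toMulEquiv ψ φ ?_ ?_, fun i => ?_⟩
  · exact PresentedGroup.ext fun i => by simp [ψ, hφ]
  · refine MonoidHom.eq_of_eqOn_dense h.2.1 ?_
    rintro _ ⟨i, rfl⟩
    simp [ψ, hφ]
  · exact PresentedGroup.toGroup.of (f := f) (rels := R) (fun w hw => h.1 w (hmem.1 hw))

end CfsgLib.Pres.ShortAlt
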