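import Cfsg.Agent.Lib.Pres.ShortAlt.Tools
import Cfsg.Agent.Lib.Pres.AltMonomial

/-!
Seven relations on a translation, a multiplier, a three-cycle and a long cycle define the
alternating or the symmetric group.
-/

set_option autoImplicit false
set_option maxHeartbeats 200000

namespace CfsgLib.Pres.ShortAlt

open Equiv CfsgLib.Recog

variable {X : Type*} [Group X]

/-- conjugates of the three-cycle by the translation -/
def zn (U Z : X) (i : ℕ) : X := U ^ i * Z * (U ^ i)⁻¹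

/-- conjugates of the double transposition by the long cycle -/
def tt (U Z C : X) (j : ℕ) : X := C ^ j * (Z * (zn U Z 1)⁻¹ * Z) * (C ^ j)⁻¹

/-- products of consecutive double transpositions -/
def PP (U Z C : X) (a : ℕ) : ℕ → X
  | 0 => 1
  | l + 1 => PP U Z C a l * tt U Z C (a + l)

/-- The relations, evaluated in a group over the symmetric group. -/
structure Pack (q m : ℕ) (π : X →* Perm (Fin (m + 2))) where
  hp : (q + 1).Prime
  h5 : 5 ≤ q + 1
  hpm : q + 1 ≤ m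
  hm : m + 2 ≤ 2 * (q + 1)
  U : X
  H : X
  C : X
  Z : X
  hgen : Subgroup.closure ({U, H, C, Z} : Set X) = ⊤
  πz : ∀ i, i < q + 1 → π (zn U Z i) = zc m i
  πC : ∀ i, 2 ≤ i → i ≤ m → π C (pt m i) = pt m (i + 1)
  πC01 : (π C (pt m 0) = pt m 0 ∧ π C (pt m 1) = pt m 1) ∨
    (π C (pt m 0) = pt m 1 ∧ π C (pt m 1) = pt m 0)
  t : ℕ
  ht : Nat.Coprime t (q + 1)
  ht1 : Nat.Coprime (t + 1) (q + 1)
  hr : ∀ j : ZMod (q + 1), j ≠ 0 → ∃ k : ℕ,
    (t : ZMod (q + 1)) ^ k * j = ((t + 1 : ℕ) : ZMod (q + 1)) ^ k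
  R1 : U ^ (q + 1) = Z ^ 3
  R2 : H * U ^ t * H⁻¹ = U ^ (t + 1)
  R3 : H * Z * H⁻¹ = Z ∨ H * Z * H⁻¹ = Z⁻¹
  R4 : (Z * zn U Z 1) ^ 2 = 1
  k : ℕ
  nx : X
  nx' : X
  ny : X
  ny' : X
  ns : X
  σ : X
  hnx : nx ∈ Subgroup.closure (Set.range (zn U Z))
  hnx' : nx' ∈ Subgroup.closure (Set.range (zn U Z))
  hny : ny ∈ Subgroup.closure (Set.range (zn U Z))
  hny' : ny' ∈ Subgroup.closure (Set.range (zn U Z))
  hns : ns ∈ Subgroup.closure (Set.range (zn U Z))
  g1 : alternatingGroup (Fin (q + 2))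
  g2 : alternatingGroup (Fin (q + 2))
  hg : Subgroup.closure {g1, g2} = ⊤
  πx : π (U * nx) = Perm.viaEmbeddingHom (blk (show q ≤ m by omega)) g1
  πy : π (H ^ k * ny) = Perm.viaEmbeddingHom (blk (show q ≤ m by omega)) g2
  R5 : C * (U * nx) * C⁻¹ = nx'
  R6 : C * (H ^ k * ny) * C⁻¹ = ny'
  hσ : (k = 1 ∧ σ = 1) ∨ (k = 2 ∧ σ = H * ns ∧ π σ = swap (pt m 0) (pt m 1))
  R7 : C = σ * PP U Z C 0 (m - 1)

theorem eight_torsion {a b e : X} (ha : a ^ 3 = e) (hb : b ^ 3 = e) (h : (a * b) ^ 2 = 1) :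
    e ^ 8 = 1 := by
  have key : ∀ {a b : X}, a ^ 3 = e → b ^ 3 = e → (a * b) ^ 2 = 1 → (a * b⁻¹) ^ 3 * e ^ 4 = 1 := by
    intro a b ha hb h
    have ca : Commute e a := by rw [← ha]; exact (Commute.refl a).pow_left 3
    have cb : Commute e b := by rw [← hb]; exact (Commute.refl b).pow_left 3
    have cab : Commute (a * b⁻¹) e := (ca.symm.mul_left cb.symm.inv_left)
    have h1 : (b * a * b) ^ 3 = e⁻¹ := by rw [pair_mid (pair_symm h), inv_pow, ha]
    have h2 : b * a * b = b * ((a * b⁻¹) * e) * b⁻¹ := by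
      rw [← hb]; simp only [pow_succ, pow_zero, one_mul, mul_assoc, inv_mul_cancel_left, mul_inv_cancel, mul_one]
    rw [h2, conj_pow, cab.mul_pow] at h1
    have h3 : b⁻¹ * (b * ((a * b⁻¹) ^ 3 * e ^ 3) * b⁻¹) * b = b⁻¹ * e⁻¹ * b := by rw [h1]
    have h4 : (a * b⁻¹) ^ 3 * e ^ 3 = e⁻¹ := by
      rw [show b⁻¹ * e⁻¹ * b = e⁻¹ by rw [mul_assoc, cb.inv_left.eq, inv_mul_cancel_left]] at h3
      rw [← h3]; group
    rw [pow_succ e 3, ← mul_assoc, h4, inv_mul_cancel]
  have k1 := key ha hb h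
  have k2 := key hb ha (pair_symm h)
  rw [show b * a⁻¹ = (a * b⁻¹)⁻¹ by group, inv_pow, inv_mul_eq_one] at k2
  rw [k2, ← pow_add] at k1
  exact k1

namespace Pack

variable {q m : ℕ} {π : X →* Perm (Fin (m + 2))} (P : Pack q m π)

/-- the three-cycles -/
abbrev z (i : ℕ) : X := zn P.U P.Z i

/-- the double transpositions -/
abbrev tj (j : ℕ) : X := tt P.U P.Z P.C j

theorem z_conj (k i : ℕ) : P.U ^ k * P.z i * (P.U ^ k)⁻¹ = P.z (k + i) := by
  simp only [z, zn, pow_add]; group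

theorem comm_Z : Commute (P.U ^ (q + 1)) P.Z := by
  rw [P.R1]; exact (Commute.refl P.Z).pow_left 3

theorem z_period (i : ℕ) : P.z (i + (q + 1)) = P.z i := by
  show zn P.U P.Z (i + (q + 1)) = zn P.U P.Z i
  simp only [zn]
  rw [pow_add P.U i (q + 1), mul_assoc (P.U ^ i) (P.U ^ (q + 1)), P.comm_Z.eq, mul_inv_rev]
  simp only [mul_assoc, mul_inv_cancel_left]

theorem z_mod (i : ℕ) : P.z i = P.z (i % (q + 1)) := by
  conv_lhs => rw [← Nat.mod_add_div i (q + 1)]
  induction i / (q + 1) with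
  | zero => rw [mul_zero, add_zero]
  | succ k ih => rw [Nat.mul_succ, ← add_assoc, P.z_period, ih]

theorem z_cast {i j : ℕ} (h : (i : ZMod (q + 1)) = j) : P.z i = P.z j := by
  rw [P.z_mod i, P.z_mod j, (ZMod.natCast_eq_natCast_iff' i j (q + 1)).1 h]

theorem H_pow (k : ℕ) : P.H * P.U ^ (P.t * k) * P.H⁻¹ = P.U ^ ((P.t + 1) * k) := by
  rw [pow_mul, ← conj_pow, P.R2, pow_mul]

theorem H_z (k : ℕ) :
    P.H * P.z (P.t * k) * P.H⁻¹ =
      P.U ^ ((P.t + 1) * k) * (P.H * P.Z * P.H⁻¹) * (P.U ^ ((P.t + 1) * k))⁻¹ := by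
  rw [← P.H_pow]; simp only [z, zn]; group

theorem pair_step (k : ℕ) (h : (P.Z * P.z (P.t * k)) ^ 2 = 1) :
    (P.Z * P.z ((P.t + 1) * k)) ^ 2 = 1 := by
  have h' : ((P.H * P.Z * P.H⁻¹) * (P.H * P.z (P.t * k) * P.H⁻¹)) ^ 2 = 1 := by
    rw [show P.H * P.Z * P.H⁻¹ * (P.H * P.z (P.t * k) * P.H⁻¹) =
      P.H * (P.Z * P.z (P.t * k)) * P.H⁻¹ by group, conj_pow, h, mul_one, mul_inv_cancel]
  rw [P.H_z k] at h'
  rcases P.R3 with e | e <;> rw [e] at h'
  · exact h'
  · rw [← conj_inv, ← mul_inv_rev, inv_pow, inv_eq_one] at h'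
    exact pair_symm h'

theorem pair_zero {d : ℕ} (hd : ¬ (q + 1) ∣ d) : (P.Z * P.z d) ^ 2 = 1 := by
  have hd0 : (d : ZMod (q + 1)) ≠ 0 := by rwa [Ne, ZMod.natCast_eq_zero_iff]
  have : Fact (q + 1).Prime := ⟨P.hp⟩
  have hu : (P.t : ZMod (q + 1)) ≠ 0 := by
    rw [Ne, ZMod.natCast_eq_zero_iff]
    exact P.hp.coprime_iff_not_dvd.1 P.ht.symm
  suffices ∀ k : ℕ, ∀ j : ℕ, (P.t : ZMod (q + 1)) ^ k * j = ((P.t + 1 : ℕ) : ZMod (q + 1)) ^ k →
      (P.Z * P.z j) ^ 2 = 1 by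
    obtain ⟨k, hk⟩ := P.hr _ hd0
    exact this k d hk
  intro k
  induction k with
  | zero =>
    intro j hj
    rw [P.z_cast (j := 1) (by simpa using hj)]
    exact P.R4
  | succ k ih =>
    intro j hj
    set c : ℕ := ((((P.t + 1 : ℕ) : ZMod (q + 1)) ^ k / (P.t : ZMod (q + 1)) ^ (k + 1))).val
    have hc : (c : ZMod (q + 1)) = ((P.t + 1 : ℕ) : ZMod (q + 1)) ^ k / (P.t : ZMod (q + 1)) ^ (k + 1) :=
      ZMod.natCast_zmod_val _
    rw [P.z_cast (j := (P.t + 1) * c) (by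
      rw [Nat.cast_mul, hc, ← mul_div_assoc, ← pow_succ', eq_div_iff (pow_ne_zero _ hu), mul_comm, hj])]
    refine P.pair_step c (ih _ ?_)
    rw [Nat.cast_mul, hc, ← mul_assoc, ← pow_succ, mul_div_cancel₀ _ (pow_ne_zero _ hu)]

theorem pair {i j : ℕ} (hi : i < q + 1) (hj : j < q + 1) (hij : i ≠ j) :
    (P.z i * P.z j) ^ 2 = 1 := by
  have h0 : P.z i = P.U ^ i * P.Z * (P.U ^ i)⁻¹ := rfl
  set d := j + (q + 1) - i
  have hd : P.z j = P.U ^ i * P.z d * (P.U ^ i)⁻¹ := by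
    rw [P.z_conj, show i + d = j + (q + 1) by omega, P.z_period]
  have hnd : ¬ (q + 1) ∣ d := by
    rintro ⟨c, hc⟩
    rcases c with _ | _ | c
    · simp at hc; omega
    · simp at hc; omega
    · rw [Nat.mul_succ, Nat.mul_succ] at hc; omega
  rw [h0, hd, show P.U ^ i * P.Z * (P.U ^ i)⁻¹ * (P.U ^ i * P.z d * (P.U ^ i)⁻¹) =
    P.U ^ i * (P.Z * P.z d) * (P.U ^ i)⁻¹ by group, conj_pow, P.pair_zero hnd, mul_one, mul_inv_cancel]

theorem cube : P.Z ^ 3 = 1 := by
  set e := P.Z ^ 3 with he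
  have h1 : P.H * e ^ P.t * P.H⁻¹ = e ^ (P.t + 1) := by
    rw [he, ← P.R1, ← pow_mul, ← pow_mul, mul_comm (q + 1), mul_comm (q + 1)]
    exact P.H_pow (q + 1)
  have h2 : P.H * e * P.H⁻¹ = (P.H * P.Z * P.H⁻¹) ^ 3 := by rw [conj_pow]
  rw [← conj_pow, h2] at h1
  rcases P.R3 with hh | hh <;> rw [hh] at h1
  · rw [← he, pow_succ, left_eq_mul] at h1
    exact h1
  · rw [inv_pow, ← he, inv_pow, inv_eq_iff_mul_eq_one, ← pow_add] at h1
    have hb : P.z 1 ^ 3 = e := by
      show (P.U ^ 1 * P.Z * (P.U ^ 1)⁻¹) ^ 3 = e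
      rw [conj_pow, he, ← P.R1, ((Commute.refl P.U).pow_pow 1 (q + 1)).eq, mul_inv_cancel_right]
    have h8 : e ^ 8 = 1 := eight_torsion rfl hb P.R4
    have hco : Nat.Coprime 8 (P.t + (P.t + 1)) :=
      show Nat.Coprime (2 ^ 3) _ from Nat.Coprime.pow_left 3
        (Nat.coprime_two_left.2 ⟨P.t, by omega⟩)
    have := pow_gcd_eq_one.2 ⟨h8, h1⟩
    rwa [hco, pow_one] at this

theorem Upow : P.U ^ (q + 1) = 1 := by rw [P.R1, P.cube]

theorem cube_z (i : ℕ) : P.z i ^ 3 = 1 := by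
  show (P.U ^ i * P.Z * (P.U ^ i)⁻¹) ^ 3 = 1
  rw [conj_pow, P.cube, mul_one, mul_inv_cancel]

/-- the alternating group of the block -/
noncomputable def θ : alternatingGroup (Fin (q + 1 + 2)) →* X :=
  (exists_hom (show 1 ≤ q + 1 by omega) P.z (fun i _ => P.cube_z i) fun _ _ hi hj h =>
    P.pair hi hj h).choose

theorem θ_zc (i : ℕ) (hi : i < q + 1) : P.θ ⟨zc (q + 1) i, zc_mem hi⟩ = P.z i :=
  (exists_hom (show 1 ≤ q + 1 by omega) P.z (fun i _ => P.cube_z i) fun _ _ hi hj h =>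
    P.pair hi hj h).choose_spec i hi

theorem π_θ (g : alternatingGroup (Fin (q + 1 + 2))) :
    π (P.θ g) = Perm.viaEmbeddingHom (blk P.hpm) (g : Perm (Fin (q + 1 + 2))) := by
  have : (π.comp P.θ).eqLocus
      ((Perm.viaEmbeddingHom (blk P.hpm)).comp (alternatingGroup _).subtype) = ⊤ :=
    closure_zc (by omega) fun i hi => by
      show π (P.θ _) = Perm.viaEmbeddingHom (blk P.hpm) (zc (q + 1) i)
      rw [P.θ_zc i hi, via_zc P.hpm hi]
      exact P.πz i hi
  exact this.ge (Subgroup.mem_top g)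

/-- the block subgroup -/
noncomputable abbrev N : Subgroup X := P.θ.range

theorem z_mem (i : ℕ) : P.z i ∈ P.N := by
  rw [P.z_mod i]; exact ⟨_, P.θ_zc _ (Nat.mod_lt i (Nat.succ_pos q))⟩

theorem closure_le : Subgroup.closure (Set.range (zn P.U P.Z)) ≤ P.N := by
  rw [Subgroup.closure_le]; rintro _ ⟨i, rfl⟩; exact P.z_mem i

theorem le_closure : P.N ≤ Subgroup.closure (Set.range (zn P.U P.Z)) := by
  rintro _ ⟨g, rfl⟩
  have : (Subgroup.closure (Set.range (zn P.U P.Z))).comap P.θ = ⊤ :=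
    closure_zc (by omega) fun i hi => by
      show P.θ _ ∈ Subgroup.closure _
      rw [P.θ_zc i hi]; exact Subgroup.subset_closure ⟨i, rfl⟩
  exact this.ge (Subgroup.mem_top g)

theorem inj {a b : X} (ha : a ∈ P.N) (hb : b ∈ P.N) (h : π a = π b) : a = b := by
  obtain ⟨g, rfl⟩ := ha
  obtain ⟨g', rfl⟩ := hb
  rw [P.π_θ, P.π_θ] at h
  rw [Subtype.ext (Perm.viaEmbeddingHom_injective _ h)]

theorem conj_mem {g : X} (h : ∀ i, g * P.z i * g⁻¹ ∈ P.N) {n : X} (hn : n ∈ P.N) :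
    g * n * g⁻¹ ∈ P.N := by
  have : Subgroup.closure (Set.range (zn P.U P.Z)) ≤ P.N.comap (MulAut.conj g).toMonoidHom := by
    rw [Subgroup.closure_le]; rintro _ ⟨i, rfl⟩; exact h i
  exact this (P.le_closure hn)

theorem U_norm {n : X} (hn : n ∈ P.N) : P.U * n * P.U⁻¹ ∈ P.N := P.conj_mem (fun i => by
  have := P.z_conj 1 i
  rw [pow_one] at this
  rw [this]; exact P.z_mem _) hn

theorem U_norm' {n : X} (hn : n ∈ P.N) : P.U⁻¹ * n * P.U ∈ P.N := by
  have := P.conj_mem (g := P.U⁻¹) (fun i => by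
    rw [show P.U⁻¹ = P.U ^ q from inv_eq_of_mul_eq_one_left (by rw [← pow_succ, P.Upow]), P.z_conj]
    exact P.z_mem _) hn
  rwa [inv_inv] at this

theorem H_z_mem (k : ℕ) :
    P.H * P.z (P.t * k) * P.H⁻¹ = P.z ((P.t + 1) * k) ∨
      P.H * P.z (P.t * k) * P.H⁻¹ = (P.z ((P.t + 1) * k))⁻¹ := by
  rw [P.H_z]
  rcases P.R3 with e | e <;> rw [e]
  · exact Or.inl rfl
  · exact Or.inr (by rw [← conj_inv]; rfl)

theorem H_norm {n : X} (hn : n ∈ P.N) : P.H * n * P.H⁻¹ ∈ P.N := P.conj_mem (fun i => by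
  have : Fact (q + 1).Prime := ⟨P.hp⟩
  have hu : (P.t : ZMod (q + 1)) ≠ 0 := by
    rw [Ne, ZMod.natCast_eq_zero_iff]; exact P.hp.coprime_iff_not_dvd.1 P.ht.symm
  rw [P.z_cast (i := i) (j := P.t * ((i : ZMod (q + 1)) / P.t).val)
    (by rw [Nat.cast_mul, ZMod.natCast_zmod_val, mul_div_cancel₀ _ hu])]
  rcases P.H_z_mem ((i : ZMod (q + 1)) / P.t).val with e | e <;> rw [e]
  · exact P.z_mem _
  · exact inv_mem (P.z_mem _)) hn

theorem H_norm' {n : X} (hn : n ∈ P.N) : P.H⁻¹ * n * P.H ∈ P.N := by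
  have := P.conj_mem (g := P.H⁻¹) (fun i => by
    have : Fact (q + 1).Prime := ⟨P.hp⟩
    have hu : ((P.t + 1 : ℕ) : ZMod (q + 1)) ≠ 0 := by
      rw [Ne, ZMod.natCast_eq_zero_iff]; exact P.hp.coprime_iff_not_dvd.1 P.ht1.symm
    set k := ((i : ZMod (q + 1)) / ((P.t + 1 : ℕ) : ZMod (q + 1))).val
    rw [P.z_cast (i := i) (j := (P.t + 1) * k)
      (by rw [Nat.cast_mul, ZMod.natCast_zmod_val, mul_div_cancel₀ _ hu]), inv_inv]
    rcases P.H_z_mem k with e | e
    · rw [← e]; simpa [mul_assoc] using P.z_mem (P.t * k)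
    · rw [← inv_inv (P.z ((P.t + 1) * k)), ← e]
      simpa [mul_assoc] using inv_mem (P.z_mem (P.t * k))) hn
  rwa [inv_inv] at this

/-- the image of the intersection under the long cycle -/
noncomputable def e2 : Fin (q + 2) ↪ Fin (q + 1 + 2) where
  toFun i := ⟨(π P.C (blk (show q ≤ m by have := P.hpm; omega) i)).val, by
    have := P.hpm
    have hi : blk (show q ≤ m by omega) i = pt m i.val := Fin.ext (by
      simp [blk, pt, Fin.ofNat, Nat.mod_eq_of_lt (show i.val < m + 2 by omega)])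
    rw [hi]
    have h0 : (pt m 0).val = 0 := by simp [pt, Fin.ofNat]
    have h1 : (pt m 1).val = 1 := by simp [pt, Fin.ofNat, Nat.mod_eq_of_lt (show 1 < m + 2 by omega)]
    rcases Nat.lt_or_ge i.val 2 with h | h
    · rcases (show i.val = 0 ∨ i.val = 1 by omega) with e | e <;> rw [e] <;>
        rcases P.πC01 with ⟨a, b⟩ | ⟨a, b⟩ <;> simp only [a, b, h0, h1] <;> omega
    · rw [P.πC _ h (by omega)]
      simp only [pt, Fin.ofNat]
      rw [Nat.mod_eq_of_lt (by omega)]; omega⟩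
  inj' a b h := (blk (show q ≤ m by have := P.hpm; omega)).injective
    ((π P.C).injective (Fin.ext (Fin.mk.inj h)))

theorem π_θ2 (g : alternatingGroup (Fin (q + 2))) :
    π (P.θ (altMap P.e2 g)) =
      π P.C * Perm.viaEmbeddingHom (blk (show q ≤ m by have := P.hpm; omega)) g * (π P.C)⁻¹ := by
  rw [P.π_θ, altMap_coe, via_comp, via_conj]
  congr 1

/-- the inclusion of the intersection in the block -/
noncomputable def θ1 : alternatingGroup (Fin (q + 2)) →* X :=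
  P.θ.comp (altMap (blk (Nat.le_succ q)))

theorem π_θ1 (g : alternatingGroup (Fin (q + 2))) :
    π (P.θ1 g) = Perm.viaEmbeddingHom (blk (show q ≤ m by have := P.hpm; omega)) g := by
  show π (P.θ (altMap _ g)) = _
  rw [P.π_θ, altMap_coe, via_comp]
  congr 1

theorem shift_lemma : P.U ∈ P.N ∧ P.H ^ P.k ∈ P.N ∧
    ∀ g, P.C * P.θ1 g * P.C⁻¹ = P.θ (altMap P.e2 g) := by
  let ψ : alternatingGroup (Fin (q + 2)) →* X :=
    (MulAut.conj P.C⁻¹).toMonoidHom.comp (P.θ.comp (altMap P.e2))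
  have hψ : ∀ g, ψ g = P.C⁻¹ * P.θ (altMap P.e2 g) * P.C := fun g => by simp [ψ]
  have hgen : ∀ {g : alternatingGroup (Fin (q + 2))} {a a' : X}, a' ∈ P.N → P.C * a * P.C⁻¹ = a' →
      π a = Perm.viaEmbeddingHom (blk (show q ≤ m by have := P.hpm; omega)) g → ψ g = a := by
    intro g a a' ha' he hπ
    have : P.θ (altMap P.e2 g) = a' := P.inj ⟨_, rfl⟩ ha' (by
      rw [P.π_θ2, ← hπ, ← he, map_mul, map_mul, map_inv])
    rw [hψ, this, ← he]; group
  have h1 : ψ P.g1 = P.U * P.nx := hgen (P.closure_le P.hnx') P.R5 P.πx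
  have h2 : ψ P.g2 = P.H ^ P.k * P.ny := hgen (P.closure_le P.hny') P.R6 P.πy
  have hUm : P.U ∈ P.N ⊔ Subgroup.closure {P.U, P.H} :=
    Subgroup.mem_sup_right (Subgroup.subset_closure (Set.mem_insert P.U {P.H}))
  have hHm : P.H ∈ P.N ⊔ Subgroup.closure {P.U, P.H} :=
    Subgroup.mem_sup_right (Subgroup.subset_closure
      (Set.mem_insert_of_mem P.U (Set.mem_singleton P.H)))
  have hG : ∀ g, ψ g ∈ P.N ⊔ Subgroup.closure {P.U, P.H} := by
    intro g
    have : (P.N ⊔ Subgroup.closure {P.U, P.H}).comap ψ = ⊤ := by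
      rw [eq_top_iff, ← P.hg, Subgroup.closure_le]
      rintro _ (rfl | rfl)
      · rw [SetLike.mem_coe, Subgroup.mem_comap, h1]
        exact mul_mem hUm
          (Subgroup.mem_sup_left (P.closure_le P.hnx))
      · rw [SetLike.mem_coe, Subgroup.mem_comap, h2]
        exact mul_mem (pow_mem hHm P.k)
          (Subgroup.mem_sup_left (P.closure_le P.hny))
    exact this.ge (Subgroup.mem_top g)
  have hN : ∀ g, ψ g ∈ P.N := perfect_le
    (commutator_alternatingGroup_eq_top (by simp; have := P.h5; omega)) ψ P.N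
    (fun _ => P.U_norm) (fun _ => P.U_norm') (fun _ => P.H_norm) (fun _ => P.H_norm')
    P.Upow P.ht P.ht1 P.R2 hG
  refine ⟨?_, ?_, fun g => ?_⟩
  · have := mul_mem (h1 ▸ hN P.g1) (inv_mem (P.closure_le P.hnx))
    rwa [mul_inv_cancel_right] at this
  · have := mul_mem (h2 ▸ hN P.g2) (inv_mem (P.closure_le P.hny))
    rwa [mul_inv_cancel_right] at this
  · have : P.θ1 g = ψ g := P.inj ⟨_, rfl⟩ (hN g) (by
      rw [P.π_θ1, hψ, map_mul, map_mul, map_inv, P.π_θ2]; group)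
    rw [this, hψ]; group

theorem σ_facts : P.σ * P.σ = 1 ∧ (∀ n ∈ P.N, P.σ * n * P.σ⁻¹ ∈ P.N) ∧
    (π P.σ = 1 ∧ P.σ = 1 ∨ π P.σ = swap (pt m 0) (pt m 1)) := by
  rcases P.hσ with ⟨-, e⟩ | ⟨hk, e, hπ⟩
  · rw [e]; simp
  · refine ⟨?_, fun n hn => ?_, Or.inr hπ⟩
    · have hn := P.closure_le P.hns
      have hmem : P.σ * P.σ ∈ P.N := by
        have h2 := P.shift_lemma.2.1
        rw [hk, pow_two] at h2
        rw [e, show P.H * P.ns * (P.H * P.ns) = (P.H * P.ns * P.H⁻¹) * (P.H * P.H) * P.ns by group]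
        exact mul_mem (mul_mem (P.H_norm hn) h2) hn
      refine P.inj hmem (one_mem _) ?_
      rw [map_mul, hπ, map_one, Equiv.swap_mul_self]
    · rw [e, show P.H * P.ns * n * (P.H * P.ns)⁻¹ = P.H * (P.ns * n * P.ns⁻¹) * P.H⁻¹ by group]
      exact P.H_norm (mul_mem (mul_mem (P.closure_le P.hns) hn) (inv_mem (P.closure_le P.hns)))

theorem tj_conj (k i : ℕ) : P.C ^ k * P.tj i * (P.C ^ k)⁻¹ = P.tj (k + i) := by
  simp only [tj, tt, pow_add]; group

theorem tj_succ (i : ℕ) : P.C * P.tj i * P.C⁻¹ = P.tj (i + 1) := by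
  have := P.tj_conj 1 i
  rwa [pow_one, add_comm] at this

theorem π_tj {j : ℕ} (hj : j + 1 < m) : π (P.tj j) = tc m j := by
  have hm := P.hpm
  have h5 := P.h5
  induction j with
  | zero =>
    show π (P.C ^ 0 * (P.Z * (P.z 1)⁻¹ * P.Z) * (P.C ^ 0)⁻¹) = _
    rw [pow_zero, one_mul, inv_one, mul_one, show P.Z = P.z 0 by simp [z, zn], map_mul, map_mul,
      map_inv, P.πz 0 (by omega), P.πz 1 (by omega), tc_eq (by omega)]
  | succ j ih =>
    rw [← P.tj_succ, map_mul, map_mul, map_inv, ih (by omega), tc, tc,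
      show π P.C * (swap (pt m 0) (pt m 1) * swap (pt m (j + 2)) (pt m (j + 3))) * (π P.C)⁻¹ =
        (π P.C * swap (pt m 0) (pt m 1) * (π P.C)⁻¹) *
          (π P.C * swap (pt m (j + 2)) (pt m (j + 3)) * (π P.C)⁻¹) by group,
      ← swap_apply_apply, ← swap_apply_apply, P.πC (j + 2) (by omega) (by omega),
      P.πC (j + 3) (by omega) (by omega)]
    rcases P.πC01 with ⟨a, b⟩ | ⟨a, b⟩ <;> rw [a, b]
    rw [swap_comm (pt m 1)]

theorem tj_mem {j : ℕ} (hj : j + 1 < q + 1) : P.tj j = P.θ ⟨tc (q + 1) j, tc_mem hj⟩ := by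
  have hm := P.hpm
  have hval : ∀ i (hi : i + 1 < q + 1), π (P.θ ⟨tc (q + 1) i, tc_mem hi⟩) = tc m i := fun i hi => by
    rw [P.π_θ, via_tc _ hi]
  induction j with
  | zero =>
    refine P.inj ?_ ⟨_, rfl⟩ (by rw [P.π_tj (by omega), hval _ hj])
    show P.C ^ 0 * (P.Z * (P.z 1)⁻¹ * P.Z) * (P.C ^ 0)⁻¹ ∈ P.N
    rw [pow_zero, one_mul, inv_one, mul_one, show P.Z = P.z 0 by simp [z, zn]]
    exact mul_mem (mul_mem (P.z_mem 0) (inv_mem (P.z_mem 1))) (P.z_mem 0)
  | succ j ih =>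
    have e : P.θ ⟨tc (q + 1) j, tc_mem (show j + 1 < q + 1 by omega)⟩ =
        P.θ1 ⟨tc q j, tc_mem (show j + 1 < q by omega)⟩ := by
      show _ = P.θ (altMap _ _)
      congr 1
      exact Subtype.ext (via_tc (Nat.le_succ q) (by omega)).symm
    refine P.inj ?_ ⟨_, rfl⟩ (by rw [P.π_tj (by omega), hval _ hj])
    rw [← P.tj_succ, ih (by omega), e, P.shift_lemma.2.2]
    exact ⟨_, rfl⟩

theorem tj_mem' {j : ℕ} (hj : j + 1 < q + 1) : P.tj j ∈ P.N := ⟨_, (P.tj_mem hj).symm⟩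

theorem tj_sq (j : ℕ) : P.tj j * P.tj j = 1 := by
  have h := P.hpm
  have h5 := P.h5
  have h0 : P.tj 0 * P.tj 0 = 1 := P.inj (mul_mem (P.tj_mem' (by omega)) (P.tj_mem' (by omega)))
    (one_mem _) (by
      rw [map_mul, P.π_tj (by omega), map_one, tc, ← pow_two]
      exact sq_swap_mul_swap (pt_ne m (by omega) (by omega) (by omega))
        (pt_ne m (by omega) (by omega) (by omega)) (pt_ne m (by omega) (by omega) (by omega))
        (pt_ne m (by omega) (by omega) (by omega)))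
  rw [← add_zero j, ← P.tj_conj, show P.C ^ j * P.tj 0 * (P.C ^ j)⁻¹ *
    (P.C ^ j * P.tj 0 * (P.C ^ j)⁻¹) = P.C ^ j * (P.tj 0 * P.tj 0) * (P.C ^ j)⁻¹ by group, h0,
    mul_one, mul_inv_cancel]

theorem tj_inv (j : ℕ) : (P.tj j)⁻¹ = P.tj j := inv_eq_of_mul_eq_one_left (P.tj_sq j)

theorem rel_of_perm {a : X} (ha : a ∈ P.N) (h : π a = 1) : a = 1 :=
  P.inj ha (one_mem _) (by rw [h, map_one])

theorem carm_perm {r : FreeGroup (Fin m)} (hr : r ∈ carmichaelRelators m) :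
    FreeGroup.lift (fun i => carmichaelGen m i) r = 1 := lift_carmichaelGen_eq_one m r hr

theorem braid (j : ℕ) : P.tj j * P.tj (j + 1) * P.tj j = P.tj (j + 1) * P.tj j * P.tj (j + 1) := by
  have h := P.hpm
  have h5 := P.h5
  have h0 : (P.tj 0 * P.tj 1) ^ 3 = 1 :=
    P.rel_of_perm (pow_mem (mul_mem (P.tj_mem' (by omega)) (P.tj_mem' (by omega))) 3) (by
      rw [map_pow, map_mul, P.π_tj (by omega), P.π_tj (by omega)]
      have := carm_perm (m := m) (r := (FreeGroup.of ⟨1, by omega⟩ * FreeGroup.of ⟨2, by omega⟩) ^ 3)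
        (Or.inl (Or.inr ⟨_, _, rfl, rfl⟩))
      simp only [map_pow, map_mul, FreeGroup.lift_apply_of] at this
      rwa [gen_succ (⟨1, _⟩ : Fin m) (k := 0) rfl, gen_succ (⟨2, _⟩ : Fin m) (k := 1) rfl] at this)
  have hj : (P.tj j * P.tj (j + 1)) ^ 3 = 1 := by
    rw [← P.tj_conj j 1]
    conv_lhs => arg 1; arg 1; rw [← add_zero j, ← P.tj_conj j 0]
    rw [show P.C ^ j * P.tj 0 * (P.C ^ j)⁻¹ * (P.C ^ j * P.tj 1 * (P.C ^ j)⁻¹) =
      P.C ^ j * (P.tj 0 * P.tj 1) * (P.C ^ j)⁻¹ by group, conj_pow, h0, mul_one, mul_inv_cancel]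
  rw [pow_succ, pow_two] at hj
  calc P.tj j * P.tj (j + 1) * P.tj j
      = (P.tj j * P.tj (j + 1) * (P.tj j * P.tj (j + 1)) * (P.tj j * P.tj (j + 1))) *
          ((P.tj (j + 1))⁻¹ * (P.tj j)⁻¹ * (P.tj (j + 1))⁻¹) := by group
    _ = _ := by rw [hj, one_mul, P.tj_inv, P.tj_inv]

theorem PP_split (a i l : ℕ) :
    PP P.U P.Z P.C a (i + l) = PP P.U P.Z P.C a i * PP P.U P.Z P.C (a + i) l := by
  induction l with
  | zero => simp [PP]
  | succ l ih => rw [← add_assoc, PP, ih, PP, add_assoc a i l, mul_assoc]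

theorem PP_conj (k a l : ℕ) :
    P.C ^ k * PP P.U P.Z P.C a l * (P.C ^ k)⁻¹ = PP P.U P.Z P.C (k + a) l := by
  induction l with
  | zero => simp [PP]
  | succ l ih =>
    rw [PP, PP, ← ih, add_assoc]
    show _ = _ * P.tj (k + (a + l))
    rw [← P.tj_conj k (a + l)]
    simp only [tj]; group

theorem PP_commute {x : X} (a l : ℕ) (h : ∀ j, a ≤ j → j < a + l → Commute x (P.tj j)) :
    Commute x (PP P.U P.Z P.C a l) := by
  induction l with
  | zero => exact Commute.one_right x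
  | succ l ih =>
    exact (ih fun j h1 h2 => h j h1 (by omega)).mul_right (h _ (by omega) (by omega))

/-- the defining equation at one place -/
theorem C_eq {i : ℕ} (hi : i + 2 ≤ m - 1) : P.C =
    P.σ * PP P.U P.Z P.C 0 i * (P.tj i * P.tj (i + 1)) * PP P.U P.Z P.C (i + 2) (m - 1 - (i + 2)) := by
  conv_lhs => rw [P.R7, show m - 1 = (i + 2) + (m - 1 - (i + 2)) by omega, P.PP_split, PP, PP]
  simp only [zero_add]
  group

theorem base_commute {d : ℕ} (h2 : 2 ≤ d) (hd : d + 1 < q + 1) :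
    Commute (P.tj 0) (P.tj d) ∧ Commute P.σ (P.tj d) := by
  have h := P.hpm
  obtain ⟨-, hσN, hσπ⟩ := P.σ_facts
  have hfar : π (P.tj 0) * π (P.tj d) = π (P.tj d) * π (P.tj 0) := by
    have := carm_perm (m := m) (r := (FreeGroup.of ⟨1, by omega⟩ * FreeGroup.of ⟨d + 1, by omega⟩) ^ 2)
      (Or.inr ⟨_, _, by simp; omega, rfl⟩)
    simp only [map_pow, map_mul, FreeGroup.lift_apply_of] at this
    rw [gen_succ (⟨1, _⟩ : Fin m) (k := 0) rfl, gen_succ (⟨d + 1, _⟩ : Fin m) (k := d) rfl,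
      ← P.π_tj (by omega), ← P.π_tj (by omega), pow_two] at this
    rw [eq_inv_of_mul_eq_one_left this, mul_inv_rev, ← map_inv, ← map_inv, P.tj_inv, P.tj_inv]
  refine ⟨P.inj (mul_mem (P.tj_mem' (by omega)) (P.tj_mem' hd))
    (mul_mem (P.tj_mem' hd) (P.tj_mem' (by omega))) (by rw [map_mul, map_mul, hfar]), ?_⟩
  refine mul_inv_eq_iff_eq_mul.1 (P.inj (hσN _ (P.tj_mem' hd)) (P.tj_mem' hd) ?_)
  rw [map_mul, map_mul, map_inv, P.π_tj (by omega)]
  rcases hσπ with ⟨e, -⟩ | e <;> rw [e]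
  · simp
  · rw [tc, ← mul_assoc, Equiv.swap_mul_self, one_mul, swap_inv]
    have := sq_swap_mul_swap (a := pt m (d + 2)) (b := pt m (d + 3)) (c := pt m 0) (d := pt m 1)
      (pt_ne m (by omega) (by omega) (by omega)) (pt_ne m (by omega) (by omega) (by omega))
      (pt_ne m (by omega) (by omega) (by omega)) (pt_ne m (by omega) (by omega) (by omega))
    rw [pow_two] at this
    rw [eq_inv_of_mul_eq_one_left this, mul_inv_rev, swap_inv, swap_inv]

theorem σ_low {j : ℕ} (hj : j + 1 < q + 1) : Commute P.σ (P.tj j) := by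
  have h := P.hpm
  obtain ⟨-, hσN, hσπ⟩ := P.σ_facts
  refine mul_inv_eq_iff_eq_mul.1 (P.inj (hσN _ (P.tj_mem' hj)) (P.tj_mem' hj) ?_)
  rw [map_mul, map_mul, map_inv, P.π_tj (by omega)]
  rcases hσπ with ⟨e, -⟩ | e <;> rw [e]
  · simp
  · rw [tc, ← mul_assoc, Equiv.swap_mul_self, one_mul, swap_inv]
    have := sq_swap_mul_swap (a := pt m (j + 2)) (b := pt m (j + 3)) (c := pt m 0) (d := pt m 1)
      (pt_ne m (by omega) (by omega) (by omega)) (pt_ne m (by omega) (by omega) (by omega))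
      (pt_ne m (by omega) (by omega) (by omega)) (pt_ne m (by omega) (by omega) (by omega))
    rw [pow_two] at this
    rw [eq_inv_of_mul_eq_one_left this, mul_inv_rev, swap_inv, swap_inv]

set_option maxHeartbeats 1000000 in
theorem all_commute : ∀ d, d + 1 ≤ m - 1 →
    (2 ≤ d → Commute (P.tj 0) (P.tj d)) ∧ Commute P.σ (P.tj d) := by
  intro d
  induction d using Nat.strong_induction_on with
  | _ d ih =>
    intro hdm
    have hm := P.hpm
    have hm2 := P.hm
    by_cases hd : d + 1 < q + 1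
    · exact ⟨fun h2 => (P.base_commute h2 hd).1, P.σ_low hd⟩
    have h5 := P.h5
    have hcomm : ∀ a b, a + 2 ≤ b → b - a < d → Commute (P.tj a) (P.tj b) := fun a b h1 h2 => by
      have h3 := ((ih (b - a) h2 (by omega)).1 (by omega)).map (MulAut.conj (P.C ^ a)).toMonoidHom
      simp only [MulEquiv.coe_toMonoidHom, MulAut.conj_apply, P.tj_conj] at h3
      rwa [add_zero, show a + (b - a) = b by omega] at h3
    -- first the commutation with the first double transposition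
    have hA : Commute (P.tj 0) (P.tj d) := by
      obtain ⟨i, hi⟩ : ∃ i, i = m - 1 - 1 - d := ⟨_, rfl⟩
      set A := P.σ * PP P.U P.Z P.C 0 i
      set B := PP P.U P.Z P.C (i + 2) (m - 1 - (i + 2))
      have hAc : Commute (P.tj (i + 1)) A :=
        (ih (i + 1) (by omega) (by omega)).2.symm.mul_right
          (P.PP_commute 0 i fun j _ hj => (hcomm j (i + 1) (by omega) (by omega)).symm)
      have eC : P.C = A * (P.tj i * P.tj (i + 1)) * B := P.C_eq (by omega)
      have eq : A * (P.tj i * P.tj (i + 1)) * B * P.tj i =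
          A * (P.tj i * P.tj (i + 1) * P.tj i) * B := by
        have e1 : P.C * P.tj i = P.tj (i + 1) * P.C := mul_inv_eq_iff_eq_mul.1 (P.tj_succ i)
        rw [eC] at e1
        rw [e1, P.braid i, ← mul_assoc (P.tj (i + 1)), ← mul_assoc (P.tj (i + 1)), hAc.eq]
        group
      have hB : Commute B (P.tj i) := by
        refine mul_left_cancel (a := A * (P.tj i * P.tj (i + 1))) ?_
        rw [← mul_assoc, eq]
        group
      have hB0 : Commute (P.tj 0) (PP P.U P.Z P.C 2 (d - 1)) := by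
        have := hB.symm.map (MulAut.conj (P.C ^ i)⁻¹).toMonoidHom
        simp only [MulEquiv.coe_toMonoidHom, MulAut.conj_apply, inv_inv] at this
        have e1 : (P.C ^ i)⁻¹ * P.tj i * P.C ^ i = P.tj 0 := by
          conv_lhs => rw [← add_zero i, ← P.tj_conj]
          simp only [add_zero]; group
        have e2 : (P.C ^ i)⁻¹ * B * P.C ^ i = PP P.U P.Z P.C 2 (d - 1) := by
          simp only [B]
          rw [← P.PP_conj, show m - 1 - (i + 2) = d - 1 by omega]
          group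
        rwa [e1, e2] at this
      have hpre : Commute (P.tj 0) (PP P.U P.Z P.C 2 (d - 2)) :=
        P.PP_commute _ _ fun j h1 h2 => hcomm 0 j (by omega) (by omega)
      rw [show d - 1 = (d - 2) + 1 by omega, PP, show 2 + (d - 2) = d by omega] at hB0
      have := hpre.inv_right.mul_right hB0
      rwa [← mul_assoc, inv_mul_cancel, one_mul] at this
    refine ⟨fun _ => hA, ?_⟩
    obtain ⟨i, rfl⟩ : ∃ i, d = i + 1 := ⟨d - 1, by omega⟩
    set A := PP P.U P.Z P.C 0 i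
    set B := PP P.U P.Z P.C (i + 2) (m - 1 - (i + 2))
    have hcomm' : ∀ a b, a + 2 ≤ b → b - a ≤ i + 1 → Commute (P.tj a) (P.tj b) := fun a b h1 h2 => by
      rcases Nat.lt_or_ge (b - a) (i + 1) with h | h
      · exact hcomm a b h1 h
      · have h3 := hA.map (MulAut.conj (P.C ^ a)).toMonoidHom
        simp only [MulEquiv.coe_toMonoidHom, MulAut.conj_apply, P.tj_conj] at h3
        rwa [add_zero, show a + (i + 1) = b by omega] at h3
    have hAc : Commute (P.tj (i + 1)) A :=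
      P.PP_commute 0 i fun j _ hj => (hcomm' j (i + 1) (by omega) (by omega)).symm
    have hBc : Commute (P.tj i) B :=
      P.PP_commute _ _ fun j h1 h2 => hcomm' i j (by omega) (by omega)
    have e1 : P.C * P.tj i = P.tj (i + 1) * P.C := mul_inv_eq_iff_eq_mul.1 (P.tj_succ i)
    have eC : P.C = P.σ * A * (P.tj i * P.tj (i + 1)) * B := P.C_eq (by omega)
    have key : P.σ * P.tj (i + 1) = P.tj (i + 1) * P.σ := by
      have h1 : P.C * P.tj i = P.σ * P.tj (i + 1) * (A * (P.tj i * P.tj (i + 1)) * B) := by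
        rw [eC]
        calc P.σ * A * (P.tj i * P.tj (i + 1)) * B * P.tj i
            = P.σ * A * (P.tj i * P.tj (i + 1)) * (B * P.tj i) := by group
          _ = P.σ * A * (P.tj i * P.tj (i + 1) * P.tj i) * B := by rw [← hBc.eq]; group
          _ = P.σ * (A * P.tj (i + 1)) * (P.tj i * P.tj (i + 1)) * B := by rw [P.braid i]; group
          _ = _ := by rw [← hAc.eq]; group
      rw [e1] at h1
      conv_lhs at h1 => rw [eC]
      have := congrArg (fun y => y * (A * (P.tj i * P.tj (i + 1)) * B)⁻¹) h1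
      simp only [mul_inv_cancel_right] at this
      calc P.σ * P.tj (i + 1) = _ := this.symm
        _ = P.tj (i + 1) * P.σ := by group
    exact key

theorem far {i j : ℕ} (hij : i + 2 ≤ j) (hj : j + 1 < m) : Commute (P.tj i) (P.tj j) := by
  have h3 := ((P.all_commute (j - i) (by omega)).1 (by omega)).map
    (MulAut.conj (P.C ^ i)).toMonoidHom
  simp only [MulEquiv.coe_toMonoidHom, MulAut.conj_apply, P.tj_conj] at h3
  rwa [add_zero, show i + (j - i) = j by omega] at h3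

theorem inverts {j : ℕ} (h1 : 1 ≤ j) (hj : j + 1 < m) : P.tj j * P.Z * P.tj j = P.Z⁻¹ := by
  have hm := P.hpm
  have h5 := P.h5
  have hZ : P.z 0 = P.Z := by simp [z, zn]
  induction j, h1 using Nat.le_induction with
  | base =>
    refine P.inj ?_ (inv_mem (hZ ▸ P.z_mem 0)) ?_
    · exact mul_mem (mul_mem (P.tj_mem' (by omega)) (hZ ▸ P.z_mem 0)) (P.tj_mem' (by omega))
    · rw [map_mul, map_mul, map_inv, P.π_tj hj, ← hZ, P.πz 0 (by omega)]
      have := carm_perm (m := m) (r := (FreeGroup.of ⟨0, by omega⟩ * FreeGroup.of ⟨2, by omega⟩) ^ 2)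
        (Or.inr ⟨_, _, by simp, rfl⟩)
      simp only [map_pow, map_mul, FreeGroup.lift_apply_of] at this
      rw [gen_zero (⟨0, _⟩ : Fin m) rfl, gen_succ (⟨2, _⟩ : Fin m) (k := 1) rfl] at this
      exact pair_mid (pair_symm this)
  | succ j h1 ih =>
    have ih := ih (by omega)
    obtain ⟨X', hX'⟩ : ∃ x, x = P.C * P.Z * P.C⁻¹ := ⟨_, rfl⟩
    have e1 : P.tj (j + 1) * X' * P.tj (j + 1) = X'⁻¹ := by
      rw [← P.tj_succ, hX']
      calc _ = P.C * (P.tj j * P.Z * P.tj j) * P.C⁻¹ := by group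
        _ = _ := by rw [ih]; group
    have hX : X' ∈ P.N := by
      have e : P.θ1 ⟨zc q 0, zc_mem (by omega)⟩ = P.Z := by
        show P.θ (altMap _ _) = _
        rw [show altMap (blk (Nat.le_succ q)) ⟨zc q 0, zc_mem (show 0 < q by omega)⟩ =
          ⟨zc (q + 1) 0, zc_mem (show 0 < q + 1 by omega)⟩ from
          Subtype.ext (via_zc (Nat.le_succ q) (by omega)), P.θ_zc 0 (by omega), hZ]
      rw [hX', ← e, P.shift_lemma.2.2]; exact ⟨_, rfl⟩
    have hπX : π X' = π P.C * zc m 0 * (π P.C)⁻¹ := by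
      simp only [hX', map_mul, map_inv]; rw [← hZ, P.πz 0 (by omega)]
    have hrel : P.Z = P.tj 0 * X' * P.tj 0 ∨ P.Z⁻¹ = P.tj 0 * X' * P.tj 0 := by
      have hN : P.tj 0 * X' * P.tj 0 ∈ P.N :=
        mul_mem (mul_mem (P.tj_mem' (by omega)) hX) (P.tj_mem' (by omega))
      have hc : π P.C * zc m 0 * (π P.C)⁻¹ =
          swap (π P.C (pt m 0)) (π P.C (pt m 1)) * swap (π P.C (pt m 1)) (pt m 3) := by
        rw [zc, ← P.πC 2 le_rfl (by omega), swap_apply_apply, swap_apply_apply]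
        group
      have n01 := pt_ne m (show 0 < m + 2 by omega) (show 1 < m + 2 by omega) zero_ne_one
      have n02 := pt_ne m (show 0 < m + 2 by omega) (show 2 < m + 2 by omega) (by omega)
      have n12 := pt_ne m (show 1 < m + 2 by omega) (show 2 < m + 2 by omega) (by omega)
      have n03 := pt_ne m (show 0 < m + 2 by omega) (show 3 < m + 2 by omega) (by omega)
      have n13 := pt_ne m (show 1 < m + 2 by omega) (show 3 < m + 2 by omega) (by omega)
      have n23 := pt_ne m (show 2 < m + 2 by omega) (show 3 < m + 2 by omega) (by omega)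
      rcases P.πC01 with ⟨a, b⟩ | ⟨a, b⟩
      · refine Or.inr (P.inj (inv_mem (hZ ▸ P.z_mem 0)) hN ?_)
        rw [map_inv, map_mul, map_mul, hπX, hc, a, b, P.π_tj (by omega), ← hZ, P.πz 0 (by omega),
          zc, tc, three_inv]
        ext y
        simp only [Perm.mul_apply, zero_add]
        by_cases y0 : y = pt m 0 <;> by_cases y1 : y = pt m 1 <;> by_cases ya : y = pt m 2 <;>
          by_cases yb : y = pt m 3 <;> simp [swap_apply_def, *] <;> grind
      · refine Or.inl (P.inj (hZ ▸ P.z_mem 0) hN ?_)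
        rw [map_mul, map_mul, hπX, hc, a, b, P.π_tj (by omega), ← hZ, P.πz 0 (by omega), zc, tc]
        ext y
        simp only [Perm.mul_apply, zero_add]
        by_cases y0 : y = pt m 0 <;> by_cases y1 : y = pt m 1 <;> by_cases ya : y = pt m 2 <;>
          by_cases yb : y = pt m 3 <;> simp [swap_apply_def, *] <;> grind
    have hc0 := (P.far (show 0 + 2 ≤ j + 1 by omega) hj).eq
    have e2 : P.tj (j + 1) * (P.tj 0 * X' * P.tj 0) * P.tj (j + 1) = (P.tj 0 * X' * P.tj 0)⁻¹ := by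
      calc _ = (P.tj (j + 1) * P.tj 0) * X' * (P.tj 0 * P.tj (j + 1)) := by group
        _ = (P.tj 0 * P.tj (j + 1)) * X' * (P.tj (j + 1) * P.tj 0) :=
          congrArg₂ (fun a b => a * X' * b) hc0.symm hc0
        _ = P.tj 0 * (P.tj (j + 1) * X' * P.tj (j + 1)) * P.tj 0 := by group
        _ = _ := by rw [e1, mul_inv_rev, mul_inv_rev, P.tj_inv]; group
    rcases hrel with e | e <;> rw [← e] at e2
    · exact e2
    · rw [inv_inv] at e2
      have := congrArg (·⁻¹) e2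
      simpa [mul_inv_rev, P.tj_inv, mul_assoc] using this

theorem exists_full : ∃ Φ : alternatingGroup (Fin (m + 2)) →* X,
    (∀ g, π (Φ g) = (g : Perm (Fin (m + 2)))) ∧ P.N ≤ Φ.range ∧
      (∀ j, j + 1 < m → P.tj j ∈ Φ.range) ∧ ∀ n ∈ Φ.range, P.σ * n * P.σ⁻¹ ∈ Φ.range := by
  have hm := P.hpm
  have h5 := P.h5
  have hZ : P.z 0 = P.Z := by simp [z, zn]
  let x : ℕ → X := fun i => if i = 0 then P.Z else P.tj (i - 1)
  have hzt : (P.Z * P.tj 0) ^ 3 = 1 :=
    P.rel_of_perm (pow_mem (mul_mem (hZ ▸ P.z_mem 0) (P.tj_mem' (by omega))) 3) (by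
      rw [map_pow, map_mul, P.π_tj (by omega), ← hZ, P.πz 0 (by omega)]
      have := carm_perm (m := m) (r := (FreeGroup.of ⟨0, by omega⟩ * FreeGroup.of ⟨1, by omega⟩) ^ 3)
        (Or.inl (Or.inr ⟨_, _, rfl, rfl⟩))
      simp only [map_pow, map_mul, FreeGroup.lift_apply_of] at this
      rwa [gen_zero (⟨0, _⟩ : Fin m) rfl, gen_succ (⟨1, _⟩ : Fin m) (k := 0) rfl] at this)
  obtain ⟨Φ, h0, ht⟩ := exists_hom_seq (m := m) (by omega) x (by simpa [x] using P.cube)
    (fun i _ => by simp only [x, Nat.succ_ne_zero, if_false, Nat.add_sub_cancel]; rw [pow_two, P.tj_sq])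
    (fun i hi => by
      rcases i with _ | i
      · simpa [x] using hzt
      · simp only [x, Nat.succ_ne_zero, if_false, Nat.add_sub_cancel]
        rw [show (P.tj i * P.tj (i + 1)) ^ 3 =
          (P.tj i * P.tj (i + 1) * P.tj i) * (P.tj (i + 1) * P.tj i * P.tj (i + 1)) by
            simp only [pow_succ, pow_zero, one_mul, mul_assoc],
          P.braid i]
        simp only [mul_assoc]
        simp only [← mul_assoc, P.tj_sq, one_mul])
    (fun i j hij hj => by
      obtain ⟨k, rfl⟩ : ∃ k, j = k + 1 := ⟨j - 1, by omega⟩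
      rcases i with _ | i
      · simp only [x, if_true, Nat.succ_ne_zero, if_false, Nat.add_sub_cancel]
        rw [pow_two, mul_assoc, ← mul_assoc (P.tj k), P.inverts (by omega) hj, mul_inv_cancel]
      · simp only [x, Nat.succ_ne_zero, if_false, Nat.add_sub_cancel]
        have hc := P.far (show i + 2 ≤ k by omega) hj
        rw [hc.mul_pow, pow_two, pow_two, P.tj_sq, P.tj_sq, one_mul])
  simp only [x, if_true, Nat.succ_ne_zero, if_false, Nat.add_sub_cancel] at h0 ht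
  have hπ : ∀ g, π (Φ g) = (g : Perm (Fin (m + 2))) := fun g => DFunLike.congr_fun
    (hom_ext_seq (m := m) (by omega) (φ := π.comp Φ) (ψ := (alternatingGroup _).subtype)
      (by show π (Φ _) = zc m 0; rw [h0, ← hZ, P.πz 0 (by omega)])
      (fun j hj => by show π (Φ _) = tc m j; rw [ht j hj, P.π_tj hj])) g
  have hθ : P.θ = Φ.comp (altMap (blk P.hpm)) := by
    refine hom_ext_seq (by omega) ?_ fun j hj => ?_
    · rw [P.θ_zc 0 (by omega), hZ, MonoidHom.comp_apply, ← h0]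
      congr 1
      exact Subtype.ext (via_zc P.hpm (by omega)).symm
    · rw [← P.tj_mem hj, MonoidHom.comp_apply, ← ht j (by omega)]
      congr 1
      exact Subtype.ext (via_tc P.hpm hj).symm
  have hNΦ : P.N ≤ Φ.range := by rintro _ ⟨g, rfl⟩; rw [hθ]; exact ⟨_, rfl⟩
  refine ⟨Φ, hπ, hNΦ, fun j hj => ⟨_, ht j hj⟩, fun n hn => ?_⟩
  obtain ⟨g, rfl⟩ := hn
  have hle : (⊤ : Subgroup (alternatingGroup (Fin (m + 2)))) ≤
      (Φ.range.comap ((MulAut.conj P.σ).toMonoidHom.comp Φ)) := by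
    intro g _
    have := closure_seq (m := m) (by omega)
      (R := (Φ.range.comap ((MulAut.conj P.σ).toMonoidHom.comp Φ)).map (alternatingGroup _).subtype)
      ⟨_, by
        show P.σ * Φ ⟨zc m 0, zc_mem (show 0 < m by omega)⟩ * P.σ⁻¹ ∈ Φ.range
        rw [h0]
        exact hNΦ (P.σ_facts.2.1 _ (hZ ▸ P.z_mem 0)), rfl⟩
      (fun j hj => ⟨_, by
        show P.σ * Φ ⟨tc m j, tc_mem hj⟩ * P.σ⁻¹ ∈ Φ.range
        rw [ht j hj, (P.all_commute j (by omega)).2.eq, mul_inv_cancel_right]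
        exact ⟨_, ht j hj⟩, rfl⟩) g.2
    obtain ⟨g', hg', e⟩ := this
    rwa [show g = g' from Subtype.ext e.symm]
  exact hle (Subgroup.mem_top g)

include P in
/-- The map to the symmetric group is injective. -/
theorem π_injective : Function.Injective π := by
  obtain ⟨Φ, hπ, hN, ht, hσΦ⟩ := P.exists_full
  obtain ⟨hσ2, -, hσπ⟩ := P.σ_facts
  have hσi : P.σ⁻¹ = P.σ := inv_eq_of_mul_eq_one_left hσ2
  let M : Subgroup X :=
    { carrier := {x | ∃ g ∈ Φ.range, x = g ∨ x = g * P.σ}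
      one_mem' := ⟨1, one_mem _, Or.inl rfl⟩
      mul_mem' := by
        rintro a b ⟨g, hg, e⟩ ⟨g', hg', e'⟩
        rcases e with rfl | rfl <;> rcases e' with rfl | rfl
        · exact ⟨_, mul_mem hg hg', Or.inl rfl⟩
        · exact ⟨_, mul_mem hg hg', Or.inr (mul_assoc _ _ _).symm⟩
        · exact ⟨_, mul_mem hg (hσΦ _ hg'), Or.inr (by group)⟩
        · refine ⟨_, mul_mem hg (hσΦ _ hg'), Or.inl ?_⟩
          rw [hσi]; group
      inv_mem' := by
        rintro a ⟨g, hg, e⟩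
        rcases e with rfl | rfl
        · exact ⟨_, inv_mem hg, Or.inl rfl⟩
        · exact ⟨_, hσΦ _ (inv_mem hg), Or.inr (by rw [mul_inv_rev, inv_mul_cancel_right, hσi])⟩ }
  have hσM : P.σ ∈ M := ⟨1, one_mem _, Or.inr (one_mul _).symm⟩
  have hleM : Φ.range ≤ M := fun g hg => ⟨g, hg, Or.inl rfl⟩
  have hM : M = ⊤ := by
    rw [eq_top_iff, ← P.hgen, Subgroup.closure_le]
    rintro _ (rfl | rfl | rfl | rfl)
    · exact hleM (hN P.shift_lemma.1)
    · rcases P.hσ with ⟨hk, -⟩ | ⟨-, e, -⟩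
      · have := P.shift_lemma.2.1
        rw [hk, pow_one] at this
        exact hleM (hN this)
      · have := mul_mem hσM (inv_mem (hleM (hN (P.closure_le P.hns))))
        rwa [e, mul_inv_cancel_right] at this
    · have hPP : ∀ l, l ≤ m - 1 → PP P.U P.Z P.C 0 l ∈ Φ.range := by
        intro l hl
        induction l with
        | zero => exact one_mem _
        | succ l ih => exact mul_mem (ih (by omega)) (ht _ (by omega))
      rw [P.R7]
      exact mul_mem hσM (hleM (hPP _ le_rfl))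
    · exact hleM (hN (by have := P.z_mem 0; simpa [z, zn] using this))
  refine (injective_iff_map_eq_one π).2 fun x hx => ?_
  obtain ⟨_, ⟨g, rfl⟩, e⟩ : x ∈ M := hM ▸ Subgroup.mem_top x
  rcases e with rfl | rfl
  · rw [hπ] at hx
    rw [show g = 1 from Subtype.ext hx, map_one]
  · rw [map_mul, hπ] at hx
    rcases hσπ with ⟨e1, e2⟩ | e1
    · rw [e1, mul_one] at hx
      rw [show g = 1 from Subtype.ext hx, map_one, e2, one_mul]
    · exfalso
      have := congrArg Perm.sign hx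
      rw [map_mul, map_one, e1, Perm.sign_swap (pt_ne m (by omega) (by omega) (by omega)),
        Perm.mem_alternatingGroup.1 g.2] at this
      simp at this

end Pack

end CfsgLib.Pres.ShortAlt
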