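import Cfsg.Agent.Lib.Pres.ShortAlt.Large

/-!
A presentation for small degree.
-/

set_option autoImplicit false

namespace CfsgLib.Pres.ShortAlt

open Equiv CfsgLib.Recog

variable {X : Type*} [Group X]

/-- conjugates of the three-cycle by the long cycle -/
def zs (s : Bool) (C Z : X) : ℕ → X
  | 0 => Z
  | i + 1 => if s then (C * zs s C Z i * C⁻¹)⁻¹ else C * zs s C Z i * C⁻¹

theorem map_zs {Y : Type*} [Group Y] (φ : X →* Y) (s : Bool) (C Z : X) :
    ∀ i, φ (zs s C Z i) = zs s (φ C) (φ Z) i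
  | 0 => rfl
  | i + 1 => by
    cases s <;> simp [zs, map_zs φ _ C Z i]

variable (s : Bool) (C Z : X)

theorem zs_cube (h : Z ^ 3 = 1) (i : ℕ) : zs s C Z i ^ 3 = 1 := by
  induction i with
  | zero => exact h
  | succ i ih =>
    have e : (C * zs s C Z i * C⁻¹) ^ 3 = 1 := by rw [conj_pow, ih, mul_one, mul_inv_cancel]
    cases s
    · exact e
    · show ((C * zs true C Z i * C⁻¹)⁻¹) ^ 3 = 1
      rw [inv_pow, e, inv_one]

theorem zs_pair {d : ℕ} : ∀ i, (Z * zs s C Z d) ^ 2 = 1 → (zs s C Z i * zs s C Z (i + d)) ^ 2 = 1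
  | 0, h => by rwa [Nat.zero_add]
  | i + 1, h => by
    have := zs_pair i h
    rw [show i + 1 + d = i + d + 1 by omega]
    cases s
    · simp only [zs, Bool.false_eq_true, if_false]
      rw [show C * zs false C Z i * C⁻¹ * (C * zs false C Z (i + d) * C⁻¹) =
        C * (zs false C Z i * zs false C Z (i + d)) * C⁻¹ by group, conj_pow, this, mul_one,
        mul_inv_cancel]
    · simp only [zs, if_true]
      rw [← mul_inv_rev, inv_pow, inv_eq_one,
        show C * zs true C Z (i + d) * C⁻¹ * (C * zs true C Z i * C⁻¹) =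
          C * (zs true C Z (i + d) * zs true C Z i) * C⁻¹ by group, conj_pow, pair_symm this,
        mul_one, mul_inv_cancel]

theorem conj_C_mem {R : Subgroup X} (hsq : C * C ∈ R) (h1 : zs s C Z 1 ∈ R) (h0 : Z ∈ R) :
    ∀ i, C ^ i * Z * (C ^ i)⁻¹ ∈ R
  | 0 => by simpa using h0
  | 1 => by
    cases s <;> simp [zs] at h1 ⊢
    · exact h1
    · rw [← inv_mem_iff]; simpa [mul_assoc] using h1
  | i + 2 => by
    rw [show C ^ (i + 2) * Z * (C ^ (i + 2))⁻¹ = C * C * (C ^ i * Z * (C ^ i)⁻¹) * (C * C)⁻¹ by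
      rw [add_comm, pow_add, pow_two]; group]
    exact mul_mem (mul_mem hsq (conj_C_mem hsq h1 h0 i)) (inv_mem hsq)

theorem zs_conj : ∀ i, zs s C Z i = C ^ i * Z * (C ^ i)⁻¹ ∨ zs s C Z i = (C ^ i * Z * (C ^ i)⁻¹)⁻¹
  | 0 => Or.inl (by simp [zs])
  | i + 1 => by
    have e : C ^ (i + 1) * Z * (C ^ (i + 1))⁻¹ = C * (C ^ i * Z * (C ^ i)⁻¹) * C⁻¹ := by
      rw [pow_succ']; group
    rcases zs_conj i with h | h <;> cases s <;> simp only [zs, Bool.false_eq_true, if_false, if_true, h, e]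
    · exact Or.inl trivial
    · exact Or.inr trivial
    · exact Or.inr (by group)
    · exact Or.inl (by group)

variable {m : ℕ}

/-- The few relations for small degree. -/
theorem presData_small {G : Subgroup (Perm (Fin (m + 2)))} {σv : Perm (Fin (m + 2))} (hm : 1 ≤ m)
    (hk : (σv = 1) ∨ (σv = swap (pt m 0) (pt m 1) ∧ 2 ≤ m))
    (f : Fin 2 → G) (hf0 : (f 0 : Perm (Fin (m + 2))) = lc σv)
    (hf1 : (f 1 : Perm (Fin (m + 2))) = zc m 0) (hgen : Subgroup.closure (Set.range f) = ⊤) :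
    ∃ L : List (FreeGroup (Fin 2)), L.length ≤ m + 1 ∧ PresData f L := by
  classical
  have hσv : σv = 1 ∨ σv = swap (pt m 0) (pt m 1) := hk.imp id And.left
  obtain ⟨hC, hC01⟩ := lc_spec hm hσv
  set Cp := lc σv
  let s : Bool := decide ¬ (Cp (pt m 0) = pt m 0)
  have hzs : ∀ i, i < m → zs s Cp (zc m 0) i = zc m i := by
    intro i
    induction i with
    | zero => exact fun _ => rfl
    | succ i ih =>
      intro hi
      by_cases hfix : Cp (pt m 0) = pt m 0
      · have hs : s = false := by simp [s, hfix]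
        rw [hs] at ih ⊢
        simp only [zs, Bool.false_eq_true, if_false]
        rw [ih (by omega), zc_shift hC hC01 hi, if_pos hfix]
      · have hs : s = true := by simp [s, hfix]
        rw [hs] at ih ⊢
        simp only [zs, if_true]
        rw [ih (by omega), zc_shift hC hC01 hi, if_neg hfix, inv_inv]
  set F : FreeGroup (Fin 2) →* Perm (Fin (m + 2)) := G.subtype.comp (FreeGroup.lift f)
  have hFC : F (FreeGroup.of 0) = Cp := by simp [F, hf0]
  have hFZ : F (FreeGroup.of 1) = zc m 0 := by simp [F, hf1]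
  have hFz : ∀ i, i < m → F (zs s (FreeGroup.of 0) (FreeGroup.of 1) i) = zc m i := fun i hi => by
    rw [map_zs, hFC, hFZ, hzs i hi]
  -- the power of the long cycle in the alternating group
  obtain ⟨k, hk1, hkmem⟩ : ∃ k, ((σv = 1 ∧ k = 1) ∨ (σv = swap (pt m 0) (pt m 1) ∧ k = 2 ∧ 2 ≤ m)) ∧
      Cp ^ k ∈ alternatingGroup (Fin (m + 2)) := by
    rcases hk with e | ⟨e, h2⟩
    · refine ⟨1, Or.inl ⟨e, rfl⟩, ?_⟩
      simp only [Cp, lc, e, one_mul, pow_one]
      exact tprod_mem (by omega)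
    · refine ⟨2, Or.inr ⟨e, rfl, h2⟩, ?_⟩
      rw [Perm.mem_alternatingGroup, map_pow]
      exact Int.units_sq _
  obtain ⟨w, hw, hwv⟩ : ∃ w ∈ Subgroup.closure
      {x | ∃ i < m, zs s (FreeGroup.of (0 : Fin 2)) (FreeGroup.of 1) i = x}, F w = Cp ^ k := by
    have htop : ((Subgroup.closure
        {x | ∃ i < m, zs s (FreeGroup.of (0 : Fin 2)) (FreeGroup.of 1) i = x}).map F).comap
          (alternatingGroup (Fin (m + 2))).subtype = ⊤ :=
      closure_zc hm fun i hi => ⟨_, Subgroup.subset_closure ⟨i, hi, rfl⟩, hFz i hi⟩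
    exact htop.ge (Subgroup.mem_top ⟨_, hkmem⟩)
  let L : List (FreeGroup (Fin 2)) :=
    (FreeGroup.of 1) ^ 3 :: (FreeGroup.of 0) ^ k * w⁻¹ ::
      (List.range (m - 1)).map
        fun j => (FreeGroup.of 1 * zs s (FreeGroup.of 0) (FreeGroup.of 1) (j + 1)) ^ 2
  have hF : ∀ v ∈ L, F v = 1 := by
    intro v hv
    simp only [L, List.mem_cons, List.mem_map, List.mem_range] at hv
    rcases hv with rfl | rfl | ⟨j, hj, rfl⟩
    · rw [map_pow, hFZ]
      have h01 := pt_ne m (show 0 < m + 2 by omega) (show 1 < m + 2 by omega) zero_ne_one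
      have h0a := pt_ne m (show 0 < m + 2 by omega) (show 2 < m + 2 by omega) (by omega)
      have h1a := pt_ne m (show 1 < m + 2 by omega) (show 2 < m + 2 by omega) (by omega)
      ext y
      simp only [zc, pow_succ, pow_zero, one_mul, Perm.mul_apply, Perm.one_apply, zero_add]
      by_cases y0 : y = pt m 0 <;> by_cases y1 : y = pt m 1 <;>
        by_cases ya : y = pt m 2 <;> simp [swap_apply_def, *] <;> grind
    · rw [map_mul, map_inv, map_pow, hFC, hwv, mul_inv_cancel]
    · rw [map_pow, map_mul, hFZ, hFz (j + 1) (by omega)]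
      have h01 := pt_ne m (show 0 < m + 2 by omega) (show 1 < m + 2 by omega) zero_ne_one
      have h0a := pt_ne m (show 0 < m + 2 by omega) (show 2 < m + 2 by omega) (by omega)
      have h1a := pt_ne m (show 1 < m + 2 by omega) (show 2 < m + 2 by omega) (by omega)
      have h0b := pt_ne m (show 0 < m + 2 by omega) (show j + 3 < m + 2 by omega) (by omega)
      have h1b := pt_ne m (show 1 < m + 2 by omega) (show j + 3 < m + 2 by omega) (by omega)
      have hab := pt_ne m (show 2 < m + 2 by omega) (show j + 3 < m + 2 by omega) (by omega)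
      ext y
      simp only [zc, pow_two, Perm.mul_apply, Perm.one_apply, zero_add, show j + 1 + 2 = j + 3 from rfl]
      by_cases y0 : y = pt m 0 <;> by_cases y1 : y = pt m 1 <;> by_cases ya : y = pt m 2 <;>
        by_cases yb : y = pt m (j + 3) <;> simp [swap_apply_def, *] <;> grind
  have hold : ∀ v ∈ L, FreeGroup.lift f v = 1 := fun v hv => Subtype.ext (hF v hv)
  refine ⟨L, by simp [L]; omega, presData_of_inj f L hold hgen ?_⟩
  set R : Set (FreeGroup (Fin 2)) := {v | v ∈ L}
  let Φ := PresentedGroup.toGroup (f := f) (rels := R) hold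
  let π : PresentedGroup R →* Perm (Fin (m + 2)) := G.subtype.comp Φ
  let ρ := PresentedGroup.mk R
  have hπ : ∀ v, π (ρ v) = F v := fun v =>
    DFunLike.congr_fun (FreeGroup.ext_hom (π.comp ρ) F fun i => by
      show G.subtype (Φ (PresentedGroup.of i)) = G.subtype (FreeGroup.lift f (FreeGroup.of i))
      rw [show Φ (PresentedGroup.of i) = f i from PresentedGroup.toGroup.of _,
        FreeGroup.lift_apply_of]) v
  have hmem : ∀ v ∈ L, ρ v = 1 := fun v hv => PresentedGroup.one_of_mem (show v ∈ R from hv)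
  set C' := ρ (FreeGroup.of 0)
  set Z' := ρ (FreeGroup.of 1)
  have hz3 : Z' ^ 3 = 1 := by
    have := hmem _ (List.mem_cons_self ..)
    rwa [map_pow] at this
  have hpair : ∀ d, 1 ≤ d → d < m → (Z' * zs s C' Z' d) ^ 2 = 1 := fun d h1 hd => by
    have := hmem _ (List.mem_cons_of_mem _ (List.mem_cons_of_mem _
      (List.mem_map.2 ⟨d - 1, List.mem_range.2 (by omega), rfl⟩)))
    rwa [map_pow, map_mul, map_zs, show d - 1 + 1 = d by omega] at this
  obtain ⟨φ, hφ⟩ := exists_hom hm (zs s C' Z') (fun i _ => zs_cube s C' Z' hz3 i)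
    fun i j hi hj hij => by
      rcases Nat.lt_or_ge i j with hlt | hge
      · obtain ⟨d, rfl⟩ : ∃ d, j = i + d := ⟨j - i, by omega⟩
        exact zs_pair s C' Z' i (hpair d (by omega) (by omega))
      · obtain ⟨d, rfl⟩ : ∃ d, i = j + d := ⟨i - j, by omega⟩
        exact pair_symm (zs_pair s C' Z' j (hpair d (by omega) (by omega)))
  have hπφ : ∀ g, π (φ g) = (g : Perm (Fin (m + 2))) := by
    have : (π.comp φ).eqLocus (alternatingGroup (Fin (m + 2))).subtype = ⊤ :=
      closure_zc hm fun i hi => by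
        show π (φ _) = zc m i
        rw [hφ i hi, ← map_zs, hπ, hFz i hi]
    exact fun g => this.ge (Subgroup.mem_top g)
  have hrange : ∀ i, i < m → zs s C' Z' i ∈ φ.range := fun i hi => ⟨_, hφ i hi⟩
  have hZR : Z' ∈ φ.range := hrange 0 hm
  have hCk : C' ^ k ∈ φ.range := by
    have h' := hmem _ (List.mem_cons_of_mem _ (List.mem_cons_self ..))
    rw [map_mul, map_inv, mul_inv_eq_one, map_pow] at h'
    rw [h']
    have hle : Subgroup.closure
        {x | ∃ i < m, zs s (FreeGroup.of (0 : Fin 2)) (FreeGroup.of 1) i = x} ≤ φ.range.comap ρ := by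
      rw [Subgroup.closure_le]
      rintro _ ⟨i, hi, rfl⟩
      rw [SetLike.mem_coe, Subgroup.mem_comap, map_zs]
      exact hrange i hi
    exact hle hw
  -- the two cosets
  let M : Subgroup (PresentedGroup R) := φ.range ⊔ Subgroup.zpowers C'
  have htop : M = ⊤ := by
    rw [eq_top_iff, ← PresentedGroup.closure_range_of R, Subgroup.closure_le]
    rintro _ ⟨i, rfl⟩
    fin_cases i
    · exact Subgroup.mem_sup_right (Subgroup.mem_zpowers _)
    · exact Subgroup.mem_sup_left hZR
  have hnorm : ∀ n ∈ φ.range, C' * n * C'⁻¹ ∈ φ.range ∧ C'⁻¹ * n * C' ∈ φ.range := by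
    have hgens : ∀ g : PresentedGroup R, (∀ i, i < m → g * zs s C' Z' i * g⁻¹ ∈ φ.range) →
        ∀ n ∈ φ.range, g * n * g⁻¹ ∈ φ.range := by
      intro g hg n hn
      obtain ⟨a, rfl⟩ := hn
      have : φ.range.comap ((MulAut.conj g).toMonoidHom.comp φ) = ⊤ :=
        closure_zc hm fun i hi => by
          show g * φ _ * g⁻¹ ∈ φ.range
          rw [hφ i hi]; exact hg i hi
      exact this.ge (Subgroup.mem_top a)
    rcases hk1 with ⟨-, rfl⟩ | ⟨-, rfl, h2⟩
    · rw [pow_one] at hCk
      exact fun n hn => ⟨mul_mem (mul_mem hCk hn) (inv_mem hCk), mul_mem (mul_mem (inv_mem hCk) hn) hCk⟩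
    · rw [pow_two] at hCk
      have hall := conj_C_mem s C' Z' hCk (hrange 1 (by omega)) hZR
      have h1 : ∀ n ∈ φ.range, C' * n * C'⁻¹ ∈ φ.range := hgens _ fun i _ => by
        have e : C' * (C' ^ i * Z' * (C' ^ i)⁻¹) * C'⁻¹ ∈ φ.range := by
          have := hall (i + 1)
          rwa [pow_succ', show C' * C' ^ i * Z' * (C' * C' ^ i)⁻¹ =
            C' * (C' ^ i * Z' * (C' ^ i)⁻¹) * C'⁻¹ by group] at this
        rcases zs_conj s C' Z' i with h | h <;> rw [h]
        · exact e
        · rw [← inv_mem_iff]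
          simpa [mul_assoc] using e
      exact fun n hn => ⟨h1 n hn, by
        rw [show C'⁻¹ * n * C' = (C' * C')⁻¹ * (C' * n * C'⁻¹) * (C' * C') by group]
        exact mul_mem (mul_mem (inv_mem hCk) (h1 n hn)) hCk⟩
  have hN : φ.range.Normal := by
    rw [← Subgroup.normalizer_eq_top_iff, eq_top_iff, ← htop]
    refine sup_le Subgroup.le_normalizer (Subgroup.zpowers_le.2 ?_)
    rw [Subgroup.mem_normalizer_iff]
    refine fun n => ⟨fun hn => (hnorm n hn).1, fun hn => ?_⟩
    have := (hnorm _ hn).2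
    rwa [show C'⁻¹ * (C' * n * C'⁻¹) * C' = n by group] at this
  intro a b hab
  have hab' : π a = π b := congrArg Subtype.val hab
  rw [← mul_inv_eq_one] at hab' ⊢
  have h1 : π (a * b⁻¹) = 1 := by rw [map_mul, map_inv, hab']
  have hx : a * b⁻¹ ∈ φ.range ⊔ Subgroup.zpowers C' := htop.ge (Subgroup.mem_top _)
  rw [← SetLike.mem_coe, Subgroup.normal_mul] at hx
  obtain ⟨n, ⟨g, rfl⟩, _, ⟨z, rfl⟩, e⟩ := Set.mem_mul.1 hx
  rw [← e] at h1 ⊢
  rw [map_mul, hπφ, map_zpow, hπ, hFC] at h1
  have key : ∀ {j : ℤ}, C' ^ j ∈ φ.range → (g : Perm (Fin (m + 2))) * Cp ^ j = 1 →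
      φ g * C' ^ j = 1 := by
    intro j ⟨g', hg'⟩ hj
    rw [← hg', ← map_mul]
    have : (g' : Perm (Fin (m + 2))) = Cp ^ j := by rw [← hπφ g', hg', map_zpow, hπ, hFC]
    rw [show g * g' = 1 from Subtype.ext (by rw [Subgroup.coe_mul, this, hj]; rfl), map_one]
  refine key ?_ h1
  rcases hk1 with ⟨-, rfl⟩ | ⟨hs, rfl, -⟩
  · rw [pow_one] at hCk
    exact zpow_mem hCk z
  · obtain ⟨j, rfl | rfl⟩ := Int.even_or_odd' z
    · rw [zpow_mul, show ((2 : ℤ)) = ((2 : ℕ) : ℤ) from rfl, zpow_natCast]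
      exact zpow_mem hCk j
    · exfalso
      have hsign := congrArg Perm.sign h1
      rw [map_mul, map_one, Perm.mem_alternatingGroup.1 g.2, one_mul, map_zpow,
        show Perm.sign Cp = -1 by
          simp only [Cp, lc, hs]
          rw [map_mul, Perm.sign_swap (pt_ne m (by omega) (by omega) zero_ne_one),
            Perm.mem_alternatingGroup.1 (tprod_mem (by omega))]
          rfl,
        Odd.neg_one_zpow ⟨j, rfl⟩] at hsign
      simp at hsign

end CfsgLib.Pres.ShortAlt
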